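import Mathlib
import Groth.Prelude.Def_Disc
import Groth.Agent.LC.GorFlat
import Groth.Agent.LC.GorRows
import Groth.Agent.LC.GorQuot
import Groth.Agent.LC.MatlisExtra
import Groth.Prelude.Def_RegImm

/-!
The dual of a finite algebra over a field at a Gorenstein point is free of rank one.
-/

set_option autoImplicit false
set_option linter.style.haveILetI false
set_option linter.unusedSectionVars false

universe u

open IsLocalRing TensorProduct

namespace Groth.Agent.QFD

theorem gorenstein_of_isCIOver {k S : Type u} [Field k] [CommRing S] [IsLocalRing S] [Algebra k S]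
    (h : Synt.IsCIOver k S) : LocCoh.IsGorensteinLocalRing S := by
  obtain ⟨R, _, _, _, -, rs, hmem, hreg, ⟨e⟩⟩ := h
  haveI : LocCoh.IsGorensteinLocalRing R := LC.gorenstein_of_isRegularLocalRing
  haveI hG := LC.gorenstein_quotient_ofList rs hmem hreg.1
  haveI : IsNoetherianRing S := isNoetherianRing_of_ringEquiv _ e.symm.toRingEquiv
  exact LC.gorenstein_of_ringEquiv e.symm.toRingEquiv

/-- A functional inducing the Frobenius duality of a local Gorenstein algebra of finite dimension. -/
theorem exists_frobenius (k L : Type u) [Field k] [CommRing L] [IsLocalRing L] [IsNoetherianRing L]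
    [Algebra k L] [Module.Finite k L] [LocCoh.IsGorensteinLocalRing L] :
    ∃ lam : L →ₗ[k] k, Function.Bijective fun c : L => lam ∘ₗ LinearMap.mulLeft k c := by
  haveI : IsArtinianRing L := isArtinian_of_tower k inferInstance
  obtain ⟨s, hs0, hs⟩ : ∃ s : L, s ≠ 0 ∧ ∀ r ∈ maximalIdeal L, r * s = 0 := by
    rcases LC.exists_regular_or_socle L with ⟨x, hx, hreg⟩ | h
    · exfalso
      obtain ⟨y, hy⟩ := IsArtinian.surjective_of_injective_endomorphism (LinearMap.mulLeft L x) hreg 1
      rw [LinearMap.mulLeft_apply] at hy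
      exact (IsLocalRing.mem_maximalIdeal x).mp hx (IsUnit.of_mul_eq_one y hy)
    · exact h
  obtain ⟨hnil, hsoc⟩ := LC.socle_of_gorenstein hs0 hs
  obtain ⟨lam, hlam⟩ := Module.Projective.exists_dual_ne_zero k hs0
  let Ψ : L →ₗ[k] (L →ₗ[k] k) :=
    { toFun := fun c => lam ∘ₗ LinearMap.mulLeft k c
      map_add' := fun x y => by ext z; simp [add_mul]
      map_smul' := fun a x => by ext z; simp }
  refine ⟨lam, ?_⟩
  have hinj : Function.Injective Ψ := by
    rw [injective_iff_map_eq_zero]
    intro c hc
    by_contra hc0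
    obtain ⟨N, hN⟩ := hnil
    obtain ⟨r, hr0, hr⟩ := LC.exists_socle_multiple (maximalIdeal L) (M := L) (fun x => ⟨N, fun a ha => by
      rw [hN, Ideal.zero_eq_bot, Ideal.mem_bot] at ha
      rw [ha, zero_smul]⟩) hc0
    obtain ⟨c₀, hc₀⟩ := hsoc (r • c) fun a ha =>
      (Submodule.mem_torsionBySet_iff _ _).1 hr ⟨a, ha⟩
    have hu : IsUnit c₀ := by
      by_contra hu
      exact hr0 (hc₀.trans (hs c₀ hu))
    obtain ⟨d, hd⟩ := hu.exists_left_inv
    refine hlam ?_
    have h1 := LinearMap.congr_fun hc (d * r)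
    simp only [Ψ, LinearMap.coe_mk, AddHom.coe_mk, LinearMap.comp_apply, LinearMap.mulLeft_apply,
      LinearMap.zero_apply] at h1
    have h2 : c * (d * r) = s := by
      rw [smul_eq_mul] at hc₀
      calc c * (d * r) = d * (r * c) := by ring
        _ = d * (c₀ * s) := by rw [hc₀]
        _ = (d * c₀) * s := by ring
        _ = s := by rw [hd, one_mul]
    rwa [h2] at h1
  have hdim : Module.finrank k L = Module.finrank k (L →ₗ[k] k) := Subspace.dual_finrank_eq.symm
  exact ⟨hinj, (LinearMap.injective_iff_surjective_of_finrank_eq_finrank hdim).mp hinj⟩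

/-- At a Gorenstein point, the dual of a finite algebra over a field is free of rank one. -/
theorem exists_omega_atPrime_equiv {k C : Type u} [Field k] [CommRing C] [Algebra k C] [Module.Finite k C]
    (q : Ideal C) [q.IsPrime] (hq : LocCoh.IsGorensteinLocalRing (Localization.AtPrime q)) :
    Nonempty (Localization.AtPrime q ⊗[C] Disc.Omega k C ≃ₗ[Localization.AtPrime q] Localization.AtPrime q) := by
  haveI : IsArtinianRing C := isArtinian_of_tower k inferInstance
  haveI : IsNoetherianRing (Localization.AtPrime q) :=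
    IsLocalization.isNoetherianRing q.primeCompl _ inferInstance
  have hsurj : Function.Surjective (algebraMap C (Localization.AtPrime q)) :=
    IsArtinianRing.localization_surjective q.primeCompl _
  let π : C →ₗ[k] Localization.AtPrime q := (IsScalarTower.toAlgHom k C (Localization.AtPrime q)).toLinearMap
  haveI : Module.Finite k (Localization.AtPrime q) := Module.Finite.of_surjective π hsurj
  obtain ⟨lam, hlam⟩ := exists_frobenius k (Localization.AtPrime q)
  let φ₀ : Disc.Omega k C := ⟨lam ∘ₗ π⟩
  obtain ⟨u, huq, hu⟩ : ∃ u ∉ q, ∀ x : C, algebraMap C (Localization.AtPrime q) x = 0 → u * x = 0 := by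
    obtain ⟨T, hT⟩ := (IsNoetherian.noetherian (RingHom.ker (algebraMap C (Localization.AtPrime q))) : Submodule.FG _)
    classical
    have h1 : ∀ t : T, ∃ v : q.primeCompl, (v : C) * (t : C) = 0 := fun t =>
      (IsLocalization.map_eq_zero_iff q.primeCompl (Localization.AtPrime q) _).mp
        (RingHom.mem_ker.mp (hT ▸ Submodule.subset_span t.2))
    choose v hv using h1
    refine ⟨((∏ t, v t : q.primeCompl) : C), (∏ t, v t).2, fun x hx => ?_⟩
    have hx' : x ∈ Submodule.span C (T : Set C) := hT ▸ RingHom.mem_ker.mpr hx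
    refine Submodule.span_induction (p := fun x _ => ((∏ t, v t : q.primeCompl) : C) * x = 0)
      (fun t ht => ?_) (mul_zero _) (fun a b _ _ ha hb => by rw [mul_add, ha, hb, add_zero])
      (fun r a _ ha => by rw [smul_eq_mul, mul_left_comm, ha, mul_zero]) hx'
    rw [Submonoid.coe_finsetProd, ← Finset.mul_prod_erase _ _ (Finset.mem_univ (⟨t, ht⟩ : T)), mul_right_comm,
      hv ⟨t, ht⟩, zero_mul]
  have hkey : ∀ φ : Disc.Omega k C, ∃ c : C, u • φ = c • φ₀ := fun φ => by
    have hker : LinearMap.ker π ≤ LinearMap.ker (u • φ).toLinearMap := fun x hx => by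
      rw [LinearMap.mem_ker, Disc.Omega.smul_toLinearMap_apply, hu x hx, map_zero]
    choose sec hsec using hsurj
    obtain ⟨c₁, hc₁⟩ := hlam.2 ((LinearMap.ker π).liftQ _ hker ∘ₗ
      (π.quotKerEquivOfSurjective fun y => ⟨sec y, hsec y⟩).symm.toLinearMap)
    refine ⟨sec c₁, Disc.Omega.ext (LinearMap.ext fun x => ?_)⟩
    have h1 := LinearMap.congr_fun hc₁ (π x)
    simp only [LinearMap.comp_apply, LinearMap.mulLeft_apply, LinearEquiv.coe_coe] at h1
    have h2 : (π.quotKerEquivOfSurjective fun y => ⟨sec y, hsec y⟩).symm (π x) = Submodule.Quotient.mk x := by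
      rw [LinearEquiv.symm_apply_eq]; rfl
    rw [h2, Submodule.liftQ_apply] at h1
    rw [← h1, Disc.Omega.smul_toLinearMap_apply]
    change lam (c₁ * π x) = lam (algebraMap C _ (sec c₁ * x))
    rw [map_mul (algebraMap C (Localization.AtPrime q)), hsec]
    rfl
  let g : Localization.AtPrime q →ₗ[Localization.AtPrime q] Localization.AtPrime q ⊗[C] Disc.Omega k C :=
    LinearMap.toSpanSingleton _ _ (1 ⊗ₜ φ₀)
  haveI : IsLocalizedModule q.primeCompl (TensorProduct.mk C (Localization.AtPrime q) (Disc.Omega k C) 1) :=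
    (isLocalizedModule_iff_isBaseChange _ (Localization.AtPrime q) _).mpr (TensorProduct.isBaseChange _ _ _)
  refine ⟨(LinearEquiv.ofBijective g ⟨?_, ?_⟩).symm⟩
  · rw [injective_iff_map_eq_zero]
    intro c hc
    obtain ⟨c, rfl⟩ := hsurj c
    have h0 : TensorProduct.mk C (Localization.AtPrime q) (Disc.Omega k C) 1 (c • φ₀) = 0 := by
      rw [map_smul, TensorProduct.mk_apply, ← algebraMap_smul (Localization.AtPrime q) c]
      exact hc
    obtain ⟨v, hv⟩ := (IsLocalizedModule.eq_zero_iff q.primeCompl _).mp h0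
    rw [Submonoid.smul_def, smul_smul] at hv
    have h2 : (fun c : Localization.AtPrime q => lam ∘ₗ LinearMap.mulLeft k c)
        (algebraMap C _ ((v : C) * c)) = (fun c => lam ∘ₗ LinearMap.mulLeft k c) 0 := by
      refine LinearMap.ext fun y => ?_
      obtain ⟨y, rfl⟩ := hsurj y
      have h3 := congrArg (fun ψ : Disc.Omega k C => ψ.toLinearMap y) hv
      simp only [Disc.Omega.smul_toLinearMap_apply, Disc.Omega.zero_toLinearMap, LinearMap.zero_apply] at h3
      simp only [LinearMap.comp_apply, LinearMap.mulLeft_apply, zero_mul, map_zero, ← map_mul]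
      exact h3
    have h4 := hlam.1 h2
    rw [map_mul] at h4
    exact (IsUnit.mul_right_eq_zero (IsLocalization.map_units _ v)).mp h4
  · intro y
    obtain ⟨⟨φ, v⟩, hφ⟩ := IsLocalizedModule.mk'_surjective q.primeCompl
      (TensorProduct.mk C (Localization.AtPrime q) (Disc.Omega k C) 1) y
    obtain ⟨c, hc⟩ := hkey φ
    obtain ⟨w, hw⟩ := (IsLocalization.map_units (Localization.AtPrime q)
      (⟨u, huq⟩ * v : q.primeCompl)).exists_left_inv
    refine ⟨w * algebraMap C _ c, ?_⟩
    have h1 : (u * (v : C)) • y = c • ((1 : Localization.AtPrime q) ⊗ₜ[C] φ₀) := by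
      have h2 : (v : C) • y = (1 : Localization.AtPrime q) ⊗ₜ[C] φ := by
        rw [← hφ]
        exact IsLocalizedModule.mk'_cancel' (S := q.primeCompl)
          (TensorProduct.mk C (Localization.AtPrime q) (Disc.Omega k C) 1) φ v
      rw [mul_smul, h2, ← TensorProduct.tmul_smul, hc, TensorProduct.tmul_smul]
    rw [LinearMap.toSpanSingleton_apply, mul_smul, algebraMap_smul, ← h1, ← algebraMap_smul (Localization.AtPrime q) (u * (v : C)), smul_smul]
    rw [show w * algebraMap C _ (u * (v : C)) = 1 from hw, one_smul]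

end Groth.Agent.QFD
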