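import Mathlib
import Groth.Agent.InvMod.Local

/-!
Criteria for a module to be invertible: at maximal ideals, and through a closed fibre of a flat module.
-/

set_option autoImplicit false
set_option linter.style.haveILetI false
set_option linter.unusedSectionVars false

universe u

open TensorProduct

namespace Groth.Agent.QFD

theorem invertible_of_forall_maximal {R M : Type u} [CommRing R] [AddCommGroup M] [Module R M]
    [Module.FinitePresentation R M]
    (h : ∀ (Q : Ideal R) [Q.IsMaximal],
      Nonempty (Localization.AtPrime Q ⊗[R] M ≃ₗ[Localization.AtPrime Q] Localization.AtPrime Q)) :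
    Module.Invertible R M := by
  refine InvMod.invertible_of_locally_free
    {r | Nonempty (LocalizedModule.Away r M ≃ₗ[Localization.Away r] Localization.Away r)} ?_ fun r hr => hr
  by_contra hne
  obtain ⟨Q, hQ, hle⟩ := Ideal.exists_le_maximal _ hne
  obtain ⟨θ⟩ := @h Q hQ
  haveI : IsLocalizedModule Q.primeCompl (TensorProduct.mk R (Localization.AtPrime Q) M 1) :=
    (isLocalizedModule_iff_isBaseChange _ (Localization.AtPrime Q) _).mpr (TensorProduct.isBaseChange _ _ _)
  obtain ⟨r, hr, l, -⟩ := Module.FinitePresentation.exists_lift_equiv_of_isLocalizedModule Q.primeCompl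
    (TensorProduct.mk R (Localization.AtPrime Q) M 1) (Algebra.linearMap R (Localization.AtPrime Q))
    (θ.restrictScalars R)
  let e : LocalizedModule.Away r R ≃ₗ[Localization.Away r] Localization.Away r :=
    (IsLocalizedModule.linearEquiv (Submonoid.powers r) (LocalizedModule.mkLinearMap (Submonoid.powers r) R)
      (Algebra.linearMap R (Localization.Away r))).extendScalarsOfIsLocalization (Submonoid.powers r) _
  exact hr (hle (Ideal.subset_span ⟨l.trans e⟩))

/-- A localisation of a module is flat over A if some element being inverted acts through a finite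
free A-module. -/
theorem flat_localized_of_factor {A R M M' : Type u} [CommRing A] [CommRing R] [Algebra A R]
    [AddCommGroup M] [Module R M] [Module A M] [IsScalarTower A R M]
    [AddCommGroup M'] [Module R M'] [Module A M'] [IsScalarTower A R M']
    (S : Submonoid R) (π : M →ₗ[R] M') [IsLocalizedModule S π] {s : R} (hs : s ∈ S) {n : ℕ}
    (f : M →ₗ[A] (Fin n → A)) (g : (Fin n → A) →ₗ[A] M) (hfg : ∀ m, g (f m) = s • m) :
    Module.Flat A M' := by
  rw [Module.Flat.iff_forall_isTrivialRelation]
  intro l a x hx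
  choose p hp using fun i => IsLocalizedModule.surj S π (x i)
  classical
  let t : S := ∏ i, (p i).2
  have ht : ∀ i, ∃ y : M, (t : R) • x i = π y := fun i => by
    obtain ⟨c, hc⟩ := Finset.dvd_prod_of_mem (fun i => (p i).2) (Finset.mem_univ i)
    refine ⟨(c : R) • (p i).1, ?_⟩
    rw [map_smul, ← hp i, Submonoid.smul_def, smul_smul,
      show (t : R) = (c : R) * ((p i).2 : R) by rw [show t = (p i).2 * c from hc, Submonoid.coe_mul, mul_comm]]
  choose y hy using ht
  have h0 : π (∑ i, a i • y i) = 0 := by
    rw [map_sum]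
    have h1 : ∀ i, π (a i • y i) = (t : R) • a i • x i := fun i => by
      rw [← IsScalarTower.algebraMap_smul R (a i) (y i), map_smul, ← hy, IsScalarTower.algebraMap_smul,
        smul_comm]
    simp only [h1, ← Finset.smul_sum, hx, smul_zero]
  obtain ⟨σ, hσ⟩ := (IsLocalizedModule.eq_zero_iff S π).mp h0
  rw [Submonoid.smul_def] at hσ
  have h2 : ∑ i, a i • f ((σ : R) • y i) = 0 := by
    have h3 : ∀ i, a i • f ((σ : R) • y i) = f ((σ : R) • a i • y i) := fun i => by
      rw [← map_smul, smul_comm]
    simp only [h3, ← map_sum, ← Finset.smul_sum, hσ, map_zero]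
  obtain ⟨k, c, z, hz1, hz2⟩ := (Module.Flat.iff_forall_isTrivialRelation.mp inferInstance h2 :
    Module.IsTrivialRelation a (fun i => f ((σ : R) • y i)))
  have hu := IsLocalizedModule.map_units π ⟨s * σ * t, S.mul_mem (S.mul_mem hs σ.2) t.2⟩
  obtain ⟨u, hu⟩ := hu
  refine ⟨k, c, fun j => (↑u⁻¹ : Module.End R M') (π (g (z j))), fun i => ?_, hz2⟩
  have hlin : ∀ (b : A) (w : M'), (↑u⁻¹ : Module.End R M') (b • w) = b • (↑u⁻¹ : Module.End R M') w := fun b w => by
    rw [← IsScalarTower.algebraMap_smul R b w, map_smul, IsScalarTower.algebraMap_smul]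
  have hπ : ∀ (b : A) (w : M), π (b • w) = b • π w := fun b w => by
    rw [← IsScalarTower.algebraMap_smul R b w, map_smul, IsScalarTower.algebraMap_smul]
  simp only [← hlin, ← map_sum, ← hπ, ← map_smul g]
  rw [← hz1 i, hfg]
  simp only [map_smul, ← hy, smul_smul]
  have h4 : (s * σ * t) • x i = (u : Module.End R M') (x i) := by
    rw [hu]; rfl
  rw [← map_smul, h4, ← LinearMap.comp_apply, ← Module.End.mul_eq_comp, Units.inv_mul, Module.End.one_apply]

/-- A flat module whose closed fibre over A is free of rank one is free of rank one. -/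
theorem nonempty_equiv_of_fibre {A R M : Type u} [CommRing A] [CommRing R] [Algebra A R]
    [IsLocalRing R] [IsNoetherianRing R] [AddCommGroup M] [Module R M] [Module A M] [IsScalarTower A R M]
    [Module.Finite R M] [Module.Flat A M] (p : Ideal A)
    (hp : p.map (algebraMap A R) ≤ IsLocalRing.maximalIdeal R)
    (θ : (R ⧸ p.map (algebraMap A R)) ⊗[R] M ≃ₗ[R] R ⧸ p.map (algebraMap A R)) :
    Nonempty (M ≃ₗ[R] R) := by
  classical
  let I := p.map (algebraMap A R)
  obtain ⟨w, hw⟩ := TensorProduct.mk_surjective R M (R ⧸ I) Ideal.Quotient.mk_surjective (θ.symm 1)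
  let ψ : R →ₗ[R] M := LinearMap.toSpanSingleton R M w
  have hψ1 : ∀ r : R, θ (1 ⊗ₜ[R] ψ r) = Ideal.Quotient.mk I r := fun r => by
    rw [LinearMap.toSpanSingleton_apply, TensorProduct.tmul_smul,
      show (1 : R ⧸ I) ⊗ₜ[R] w = θ.symm 1 from hw, map_smul, θ.apply_symm_apply, Algebra.smul_def, mul_one]
    rfl
  have hI : I ≤ Ideal.jacobson ⊥ := hp.trans (IsLocalRing.maximalIdeal_le_jacobson _)
  have hker : ∀ m : M, (1 : R ⧸ I) ⊗ₜ[R] m = 0 → m ∈ I • (⊤ : Submodule R M) := fun m hm => by
    have h1 := congrArg (TensorProduct.quotTensorEquivQuotSMul M I) hm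
    rw [map_zero] at h1
    rwa [show (1 : R ⧸ I) = Ideal.Quotient.mk I 1 from rfl, TensorProduct.quotTensorEquivQuotSMul_mk_tmul,
      one_smul, Submodule.Quotient.mk_eq_zero] at h1
  have hsurj : Function.Surjective ψ := by
    rw [← LinearMap.range_eq_top]
    refine eq_top_iff.mpr (Submodule.le_of_le_smul_of_le_jacobson_bot Module.Finite.fg_top hI fun m _ => ?_)
    obtain ⟨r, hr⟩ := Ideal.Quotient.mk_surjective (θ ((1 : R ⧸ I) ⊗ₜ[R] m))
    rw [Submodule.mem_sup]
    refine ⟨ψ r, LinearMap.mem_range_self ψ r, m - ψ r, hker _ ?_, add_sub_cancel _ _⟩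
    rw [← θ.map_eq_zero_iff, TensorProduct.tmul_sub, map_sub, hψ1, ← hr, sub_self]
  have hinj : Function.Injective ψ := by
    rw [← LinearMap.ker_eq_bot]
    refine Submodule.eq_bot_of_le_smul_of_le_jacobson_bot I _ (IsNoetherian.noetherian _) (fun x hx => ?_) hI
    have hxI : x ∈ I := by
      rw [← Ideal.Quotient.eq_zero_iff_mem, ← hψ1, LinearMap.mem_ker.mp hx, TensorProduct.tmul_zero, map_zero]
    have hxI' : x ∈ Submodule.span R (algebraMap A R '' p) := hxI
    obtain ⟨l, r, a, hax⟩ := (Submodule.mem_span_set'.mp hxI')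
    choose b hbp hba using fun i => (a i).2
    have hrel : ∑ i, b i • ψ (r i) = 0 := by
      rw [← LinearMap.mem_ker.mp hx, ← hax, map_sum]
      refine Finset.sum_congr rfl fun i _ => ?_
      rw [← IsScalarTower.algebraMap_smul R, ← map_smul, hba, smul_eq_mul, smul_eq_mul, mul_comm]
    obtain ⟨k, c, y, hy1, hy2⟩ := (Module.Flat.iff_forall_isTrivialRelation.mp inferInstance hrel :
      Module.IsTrivialRelation b (fun i => ψ (r i)))
    choose z hz using fun j => hsurj (y j)
    let r' : Fin l → R := fun i => r i - ∑ j, algebraMap A R (c i j) * z j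
    have hr' : ∀ i, r' i ∈ LinearMap.ker ψ := fun i => by
      rw [LinearMap.mem_ker, map_sub, map_sum, sub_eq_zero]
      refine (hy1 i).trans ?_
      refine Finset.sum_congr rfl fun j _ => ?_
      rw [← smul_eq_mul, map_smul, hz, IsScalarTower.algebraMap_smul]
    have hx' : x = ∑ i, algebraMap A R (b i) • r' i := by
      rw [← hax]
      simp only [r', smul_eq_mul, mul_sub, Finset.sum_sub_distrib, Finset.mul_sum]
      conv_rhs => rw [Finset.sum_comm (γ := Fin l)]
      have h0 : ∀ j, ∑ i, algebraMap A R (b i) * (algebraMap A R (c i j) * z j) = 0 := fun j => by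
        simp only [← mul_assoc, ← map_mul, ← Finset.sum_mul, ← map_sum]
        rw [show ∑ i, b i * c i j = 0 from hy2 j, map_zero, zero_mul]
      simp only [h0, Finset.sum_const_zero, sub_zero]
      refine Finset.sum_congr rfl fun i _ => ?_
      rw [hba, mul_comm]
    rw [hx']
    exact Submodule.sum_mem _ fun i _ => Submodule.smul_mem_smul (Ideal.mem_map_of_mem _ (hbp i)) (hr' i)
  exact ⟨(LinearEquiv.ofBijective ψ ⟨hinj, hsurj⟩).symm⟩

end Groth.Agent.QFD
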