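import Mathlib
import Groth.Prelude.Def_QFDual

/-!
Base change of Hom_A(B', A): an isomorphism for a flat base change, and up to any element of B'
multiplication by which factors through a finite free A-module.
-/

set_option autoImplicit false
set_option linter.style.haveILetI false
set_option linter.unusedSectionVars false

universe u

open TensorProduct

namespace Groth.Agent.QFD

theorem toDual_liftBaseChange_bijective {R S V W : Type u} [CommRing R] [CommRing S] [Algebra R S]
    [AddCommGroup V] [Module R V] [AddCommGroup W] [Module R W] [Module S W] [IsScalarTower R S W]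
    [Module.Flat R S] [Module.FinitePresentation R V] {j : V →ₗ[R] W} (ibc : IsBaseChange S j) :
    Function.Bijective (LinearMap.liftBaseChange S ibc.toDual) := by
  let E := (Module.FinitePresentation.isBaseChange_map R V R S).equiv.trans
    (LinearEquiv.arrowCongr ibc.equiv (TensorProduct.AlgebraTensorModule.rid R S S))
  have hE : LinearMap.liftBaseChange S ibc.toDual = E.toLinearMap := by
    refine TensorProduct.AlgebraTensorModule.curry_injective (LinearMap.ext_ring (LinearMap.ext fun φ => ?_))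
    refine ibc.algHom_ext _ _ fun v => ?_
    simp [E, LinearEquiv.arrowCongr, IsBaseChange.equiv_tmul, IsBaseChange.equiv_symm_apply,
      IsBaseChange.toDual_comp_apply, Algebra.algebraMap_eq_smul_one]
  rw [hE]
  exact E.bijective

/-- The ideal trick: a linear map with an inverse up to each of a set of scalars generating the unit
ideal of R' becomes bijective over R'. -/
theorem baseChange_bijective_of_span {R X Y : Type u} [CommRing R] [AddCommGroup X] [Module R X]
    [AddCommGroup Y] [Module R Y] (Φ : X →ₗ[R] Y) (R' : Type u) [CommRing R'] [Algebra R R']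
    (G : Set R) (hG : Ideal.span (algebraMap R R' '' G) = ⊤)
    (h : ∀ s ∈ G, ∃ T : Y →ₗ[R] X, (∀ y, Φ (T y) = s • y) ∧ ∀ x, T (Φ x) = s • x) :
    Function.Bijective (Φ.baseChange R') := by
  let P : Submodule R' R' :=
    { carrier := {r | ∃ T : R' ⊗[R] Y →ₗ[R'] R' ⊗[R] X,
        (∀ y, Φ.baseChange R' (T y) = r • y) ∧ ∀ x, T (Φ.baseChange R' x) = r • x}
      zero_mem' := ⟨0, fun y => by simp, fun x => by simp⟩
      add_mem' := by
        rintro a b ⟨T, h1, h2⟩ ⟨T', h1', h2'⟩
        exact ⟨T + T', fun y => by simp [h1, h1', add_smul], fun x => by simp [h2, h2', add_smul]⟩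
      smul_mem' := by
        rintro c a ⟨T, h1, h2⟩
        exact ⟨c • T, fun y => by simp [h1, smul_smul], fun x => by simp [h2, smul_smul]⟩ }
  have hP : (1 : R') ∈ P := by
    refine (Ideal.span_le (I := P)).mpr ?_ ((Ideal.eq_top_iff_one _).mp hG)
    rintro _ ⟨s, hs, rfl⟩
    obtain ⟨T, h1, h2⟩ := h s hs
    refine ⟨T.baseChange R', fun y => ?_, fun x => ?_⟩
    · have hc : Φ.comp T = s • LinearMap.id := LinearMap.ext h1
      rw [← LinearMap.comp_apply, ← LinearMap.baseChange_comp, hc]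
      simp [algebraMap_smul]
    · have hc : T.comp Φ = s • LinearMap.id := LinearMap.ext h2
      rw [← LinearMap.comp_apply, ← LinearMap.baseChange_comp, hc]
      simp [algebraMap_smul]
  obtain ⟨T, h1, h2⟩ := hP
  exact ⟨(Function.LeftInverse.injective fun x => (h2 x).trans (one_smul _ x)),
    (Function.RightInverse.surjective fun y => (h1 y).trans (one_smul _ y))⟩

variable {A B' A₁ B'₁ : Type u}
  [CommRing A] [CommRing B'] [CommRing A₁] [CommRing B'₁]
  [Algebra A B'] [Algebra A A₁] [Algebra B' B'₁] [Algebra A₁ B'₁] [Algebra A B'₁]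
  [IsScalarTower A A₁ B'₁] [IsScalarTower A B' B'₁]

theorem omega_smul_eq (a : A) (φ : B' →ₗ[A] A) :
    (⟨a • φ⟩ : Disc.Omega A B') = algebraMap A B' a • ⟨φ⟩ := by
  ext x
  simp [← Algebra.smul_def]

theorem omega_sum_toLinearMap {A B' : Type u} [CommRing A] [CommRing B'] [Algebra A B'] {ι : Type*}
    (t : Finset ι) (φ : ι → Disc.Omega A B') :
    (∑ i ∈ t, φ i).toLinearMap = ∑ i ∈ t, (φ i).toLinearMap :=
  map_sum (AddMonoidHom.mk' (fun ψ : Disc.Omega A B' => ψ.toLinearMap) fun _ _ => rfl) φ t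

/-- The map B'₁ ⊗ Hom_A(B', A) → Hom_{A₁}(B'₁, A₁). -/
noncomputable def bcLin (h : Algebra.IsPushout A A₁ B' B'₁) :
    B'₁ ⊗[B'] Disc.Omega A B' →ₗ[B'₁] Disc.Omega A₁ B'₁ :=
  (TensorProduct.lid B'₁ (Disc.Omega A₁ B'₁)).toLinearMap ∘ₗ QFDual.omegaBC (B₁ := B'₁) h

@[simp] theorem bcLin_tmul (h : Algebra.IsPushout A A₁ B' B'₁) (c : B'₁) (φ : Disc.Omega A B') :
    bcLin h (c ⊗ₜ[B'] φ) = c • QFDual.bcFin h φ := by
  simp [bcLin]

theorem omegaBC_eq_baseChange (h : Algebra.IsPushout A A₁ B' B'₁) (B₁ : Type u) [CommRing B₁]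
    [Algebra B'₁ B₁] [Algebra B' B₁] [IsScalarTower B' B'₁ B₁] :
    QFDual.omegaBC (B₁ := B₁) h = (bcLin h).baseChange B₁ ∘ₗ
      (AlgebraTensorModule.cancelBaseChange B' B'₁ B₁ B₁ (Disc.Omega A B')).symm.toLinearMap := by
  ext φ
  simp

theorem omegaBC_bijective (h : Algebra.IsPushout A A₁ B' B'₁) (B₁ : Type u) [CommRing B₁]
    [Algebra B'₁ B₁] [Algebra B' B₁] [IsScalarTower B' B'₁ B₁]
    (hb : Function.Bijective ((bcLin h).baseChange B₁)) :
    Function.Bijective (QFDual.omegaBC (B₁ := B₁) h) := by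
  rw [omegaBC_eq_baseChange, LinearMap.coe_comp]
  exact hb.comp (LinearEquiv.bijective _)

theorem exists_toA1 (h : Algebra.IsPushout A A₁ B' B'₁) :
    ∃ q : A₁ ⊗[A] (B' →ₗ[A] A) →+ B'₁ ⊗[B'] Disc.Omega A B',
      (∀ a φ, q (a ⊗ₜ φ) = algebraMap A₁ B'₁ a ⊗ₜ[B'] (⟨φ⟩ : Disc.Omega A B')) ∧
      Function.Surjective q := by
  let q : A₁ ⊗[A] (B' →ₗ[A] A) →+ B'₁ ⊗[B'] Disc.Omega A B' :=
    TensorProduct.liftAddHom
      { toFun := fun a => AddMonoidHom.mk'
          (fun φ => algebraMap A₁ B'₁ a ⊗ₜ[B'] (⟨φ⟩ : Disc.Omega A B'))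
          (fun φ ψ => by rw [← TensorProduct.tmul_add]; rfl)
        map_zero' := by ext φ; simp
        map_add' := fun a b => by ext φ; simp [TensorProduct.add_tmul] }
      (fun r a φ => by
        change algebraMap A₁ B'₁ (r • a) ⊗ₜ[B'] (⟨φ⟩ : Disc.Omega A B') =
          algebraMap A₁ B'₁ a ⊗ₜ[B'] (⟨r • φ⟩ : Disc.Omega A B')
        rw [omega_smul_eq, TensorProduct.tmul_smul, TensorProduct.smul_tmul']
        congr 1
        rw [Algebra.smul_def, Algebra.smul_def, map_mul, ← IsScalarTower.algebraMap_apply A A₁ B'₁,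
          ← IsScalarTower.algebraMap_apply A B' B'₁])
  refine ⟨q, fun a φ => rfl, fun x => ?_⟩
  induction x using TensorProduct.induction_on with
  | zero => exact ⟨0, map_zero q⟩
  | add x y hx hy =>
    obtain ⟨a, rfl⟩ := hx
    obtain ⟨b, rfl⟩ := hy
    exact ⟨a + b, map_add q a b⟩
  | tmul c φ =>
    induction c using h.out.inductionOn with
    | zero => exact ⟨0, by simp⟩
    | add c d hc hd =>
      obtain ⟨a, ha⟩ := hc
      obtain ⟨b, hb⟩ := hd
      exact ⟨a + b, by rw [map_add, ha, hb, TensorProduct.add_tmul]⟩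
    | tmul b =>
      refine ⟨1 ⊗ₜ (b • φ).toLinearMap, ?_⟩
      change algebraMap A₁ B'₁ 1 ⊗ₜ[B'] (b • φ) = _
      rw [map_one, TensorProduct.tmul_smul, TensorProduct.smul_tmul', ← Algebra.algebraMap_eq_smul_one]
      rfl
    | smul a c hc =>
      obtain ⟨z, hz⟩ := hc
      refine ⟨a • z, ?_⟩
      have hq : ∀ z, q (a • z) = algebraMap A₁ B'₁ a • q z := fun z => by
        induction z using TensorProduct.induction_on with
        | zero => simp
        | add x y hx hy => simp only [smul_add, map_add, hx, hy]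
        | tmul a' φ =>
          change algebraMap A₁ B'₁ (a • a') ⊗ₜ[B'] _ = algebraMap A₁ B'₁ a • (algebraMap A₁ B'₁ a' ⊗ₜ[B'] _)
          rw [TensorProduct.smul_tmul', smul_eq_mul, smul_eq_mul, map_mul]
      rw [hq, hz, TensorProduct.smul_tmul', smul_eq_mul, Algebra.smul_def]

theorem bcLin_bijective_of_flat (h : Algebra.IsPushout A A₁ B' B'₁) [Module.Flat A A₁]
    [Module.FinitePresentation A B'] : Function.Bijective (bcLin h) := by
  have hθ := toDual_liftBaseChange_bijective h.out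
  obtain ⟨q, hq, hqs⟩ := exists_toA1 h
  have key : ∀ z, (bcLin h (q z)).toLinearMap = LinearMap.liftBaseChange A₁ h.out.toDual z := fun z => by
    induction z using TensorProduct.induction_on with
    | zero => simp
    | add x y hx hy => simp only [map_add, Disc.Omega.add_toLinearMap, hx, hy]
    | tmul a φ =>
      rw [hq, bcLin_tmul, LinearMap.liftBaseChange_tmul]
      ext x
      rw [Disc.Omega.smul_toLinearMap_apply, ← Algebra.smul_def, map_smul]
      rfl
  constructor
  · intro x y hxy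
    obtain ⟨a, rfl⟩ := hqs x
    obtain ⟨b, rfl⟩ := hqs y
    have hab : a = b := hθ.injective (by rw [← key, ← key, hxy])
    rw [hab]
  · intro ψ
    obtain ⟨z, hz⟩ := hθ.surjective ψ.toLinearMap
    exact ⟨q z, Disc.Omega.ext ((key z).trans hz)⟩

theorem bcLin_factor (h : Algebra.IsPushout A A₁ B' B'₁) {s : B'} {n : ℕ}
    (f : B' →ₗ[A] (Fin n → A)) (g : (Fin n → A) →ₗ[A] B') (hfg : ∀ b, g (f b) = s * b) :
    ∃ T : Disc.Omega A₁ B'₁ →ₗ[B'₁] B'₁ ⊗[B'] Disc.Omega A B',
      (∀ y, bcLin h (T y) = algebraMap B' B'₁ (s * s) • y) ∧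
      ∀ x, T (bcLin h x) = algebraMap B' B'₁ (s * s) • x := by
  obtain ⟨q, hq, hqs⟩ := exists_toA1 h
  let φ : Fin n → (B' →ₗ[A] A) := fun i => LinearMap.proj i ∘ₗ f
  let w : Fin n → B' := fun i => g (Pi.single i 1)
  have hw : ∀ b, ∑ i, φ i b • w i = s * b := fun b => by
    rw [← hfg b]
    conv_rhs => rw [pi_eq_sum_univ' (f b), map_sum]
    simp [φ, w]
  let T₀ : Disc.Omega A₁ B'₁ → B'₁ ⊗[B'] Disc.Omega A B' := fun ψ =>
    q (∑ i, ψ.toLinearMap (algebraMap B' B'₁ (w i)) ⊗ₜ φ i)
  have hT₀add : ∀ ψ ψ', T₀ (ψ + ψ') = T₀ ψ + T₀ ψ' := fun ψ ψ' => by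
    simp only [T₀, ← map_add, ← Finset.sum_add_distrib, ← TensorProduct.add_tmul,
      Disc.Omega.add_toLinearMap, LinearMap.add_apply]
  have h1 : ∀ ψ, bcLin h (T₀ ψ) = algebraMap B' B'₁ s • ψ := fun ψ => by
    refine Disc.Omega.ext ?_
    refine h.out.algHom_ext _ _ fun b => ?_
    change (bcLin h (T₀ ψ)).toLinearMap (algebraMap B' B'₁ b) = _
    have hi : ∀ i, (bcLin h (q (ψ.toLinearMap (algebraMap B' B'₁ (w i)) ⊗ₜ φ i))).toLinearMap
        (algebraMap B' B'₁ b) =
        ψ.toLinearMap (algebraMap B' B'₁ (w i)) * algebraMap A A₁ (φ i b) := fun i => by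
      rw [hq, bcLin_tmul, Disc.Omega.smul_toLinearMap_apply, ← Algebra.smul_def, map_smul,
        QFDual.bcFin_apply_algebraMap, smul_eq_mul]
    simp only [T₀, map_sum, omega_sum_toLinearMap, LinearMap.sum_apply, hi]
    change _ = ψ.toLinearMap (algebraMap B' B'₁ s * algebraMap B' B'₁ b)
    rw [← map_mul, ← hw b, map_sum, map_sum]
    refine Finset.sum_congr rfl fun i _ => ?_
    rw [Algebra.smul_def, map_mul (algebraMap B' B'₁), ← IsScalarTower.algebraMap_apply A B' B'₁,
      IsScalarTower.algebraMap_apply A A₁ B'₁, ← Algebra.smul_def, map_smul, smul_eq_mul, mul_comm]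
  have h2 : ∀ x, T₀ (bcLin h x) = algebraMap B' B'₁ s • x := fun x => by
    obtain ⟨z, rfl⟩ := hqs x
    induction z using TensorProduct.induction_on with
    | zero =>
      have h0 := hT₀add 0 0
      rw [add_zero, left_eq_add] at h0
      simp [h0]
    | add x y hx hy => simp only [map_add, hT₀add, hx, hy, smul_add]
    | tmul a ξ =>
      have hi : ∀ i, (bcLin h (q (a ⊗ₜ ξ))).toLinearMap (algebraMap B' B'₁ (w i)) ⊗ₜ[A] φ i =
          a ⊗ₜ[A] (ξ (w i) • φ i) := fun i => by
        rw [hq, bcLin_tmul, Disc.Omega.smul_toLinearMap_apply, ← Algebra.smul_def, map_smul,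
          QFDual.bcFin_apply_algebraMap, smul_eq_mul, mul_comm, ← Algebra.smul_def,
          TensorProduct.smul_tmul]
      simp only [T₀, hi]
      rw [← TensorProduct.tmul_sum, hq, hq, algebraMap_smul, ← TensorProduct.tmul_smul]
      congr 1
      refine Disc.Omega.ext (LinearMap.ext fun b => ?_)
      rw [Disc.Omega.smul_toLinearMap_apply]
      change (∑ i, ξ (w i) • φ i) b = ξ (s * b)
      rw [← hw b, map_sum, LinearMap.sum_apply]
      exact Finset.sum_congr rfl fun i _ => by
        rw [map_smul, LinearMap.smul_apply, smul_eq_mul, smul_eq_mul, mul_comm]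
  have h3 : ∀ (c : B'₁) ψ, algebraMap B' B'₁ s • T₀ (c • ψ) = c • (algebraMap B' B'₁ s • T₀ ψ) :=
    fun c ψ => by
      rw [← h2 (T₀ (c • ψ)), h1, smul_comm, ← h1 ψ, ← map_smul, h2, smul_comm]
  refine ⟨{ toFun := fun ψ => algebraMap B' B'₁ s • T₀ ψ
            map_add' := fun ψ ψ' => by rw [hT₀add, smul_add]
            map_smul' := h3 }, fun ψ => ?_, fun x => ?_⟩
  · change bcLin h (algebraMap B' B'₁ s • T₀ ψ) = _
    rw [map_smul, h1, smul_smul, map_mul]
  · change algebraMap B' B'₁ s • T₀ (bcLin h x) = _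
    rw [h2, smul_smul, map_mul]

theorem bcLin_bijective_of_projective (h : Algebra.IsPushout A A₁ B' B'₁) [Module.Finite A B']
    [Module.Projective A B'] : Function.Bijective (bcLin h) := by
  obtain ⟨n, g, f, -, -, hgf⟩ := Module.Finite.exists_comp_eq_id_of_projective A B'
  obtain ⟨T, h1, h2⟩ := bcLin_factor h f g (s := 1) fun b => by
    rw [one_mul]; exact LinearMap.congr_fun hgf b
  simp only [mul_one, map_one, one_smul] at h1 h2
  exact ⟨Function.LeftInverse.injective h2, Function.RightInverse.surjective h1⟩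

end Groth.Agent.QFD
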