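import Mathlib
import Groth.Agent.Hensel.Local
import Groth.Agent.Hensel.Semilocal
import Groth.Agent.FlatLoc6.Cpl
import Groth.Agent.BrnchLib.Compl
import Groth.Agent.SchFinLib.Pairs

/-!
For a finite algebra flat at a prime q, multiplication by some element outside q factors through a
finite free module.
-/

set_option autoImplicit false
set_option linter.style.haveILetI false

universe u

open TensorProduct IsLocalRing

namespace Groth.Agent.QFD

theorem exists_idem_factor (R : Type u) [CommRing R] [HenselianLocalRing R] [IsNoetherianRing R]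
    (S : Type u) [CommRing S] [Algebra R S] [Module.Finite R S] (Q : Ideal S) [Q.IsMaximal]
    (hflat : Module.Flat R (Localization.AtPrime Q)) :
    ∃ e ∉ Q, ∃ (n : ℕ) (f : S →ₗ[R] (Fin n → R)) (g : (Fin n → R) →ₗ[R] S),
      ∀ b, g (f b) = e * b := by
  obtain ⟨_, e', he', hM⟩ := Hensel.exists_idempotents_of_henselian R S
  let M : MaximalSpectrum S := ⟨Q, inferInstance⟩
  let e := e' M
  have he : IsIdempotentElem e := he'.idem M
  have heQ : e ∉ Q := (hM M).1
  let I : Ideal S := Ideal.span {1 - e}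
  haveI hloc : IsLocalRing (S ⧸ I) := Hensel.isLocalRing_quotient_one_sub he'.idem hM M
  have hIQ : I ≤ Q := (Ideal.span_singleton_le_iff_mem Q).mpr (by
    have h0 : e * (1 - e) ∈ Q := by rw [mul_sub, mul_one, he.eq, sub_self]; exact Q.zero_mem
    exact (Ideal.IsPrime.mem_or_mem inferInstance h0).resolve_left heQ)
  have hmap : (maximalIdeal (S ⧸ I)).comap (Ideal.Quotient.mk I) = Q := by
    haveI h1m : (Q.map (Ideal.Quotient.mk I)).IsMaximal :=
      Ideal.IsMaximal.map_of_surjective_of_ker_le Ideal.Quotient.mk_surjective (by rwa [Ideal.mk_ker])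
    rw [← eq_maximalIdeal h1m, Ideal.comap_map_of_surjective _ Ideal.Quotient.mk_surjective,
      ← RingHom.ker_eq_comap_bot, Ideal.mk_ker, sup_eq_left.mpr hIQ]
  haveI : IsLocalization.AtPrime (S ⧸ I) Q :=
    { map_units := fun s => by
        by_contra h
        have hs : (s : S) ∈ (maximalIdeal (S ⧸ I)).comap (Ideal.Quotient.mk I) := h
        rw [hmap] at hs
        exact s.2 hs
      surj := fun z => by
        obtain ⟨z, rfl⟩ := Ideal.Quotient.mk_surjective z
        exact ⟨⟨z, 1⟩, by simp⟩
      exists_of_eq := fun {x y} h => by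
        refine ⟨⟨e, heQ⟩, ?_⟩
        obtain ⟨c, hc⟩ := Ideal.mem_span_singleton'.mp (Ideal.Quotient.eq.mp h)
        change e * x = e * y
        rw [← sub_eq_zero, ← mul_sub, ← hc, mul_left_comm, mul_sub, mul_one, he.eq, sub_self, mul_zero] }
  haveI : Module.Flat R (S ⧸ I) :=
    Module.Flat.of_linearEquiv
      ((IsLocalization.algEquiv Q.primeCompl (S ⧸ I) (Localization.AtPrime Q)).restrictScalars R).toLinearEquiv
  haveI : Module.FinitePresentation R (S ⧸ I) := Module.finitePresentation_of_finite R _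
  haveI : Module.Free R (S ⧸ I) := Module.free_of_flat_of_isLocalRing
  let b := Module.finBasis R (S ⧸ I)
  let sec : (S ⧸ I) →ₗ[R] S := (Submodule.liftQ I (LinearMap.mulLeft S e) (by
    refine (Ideal.span_singleton_le_iff_mem _).mpr ?_
    simp [mul_sub, he.eq])).restrictScalars R
  refine ⟨e, heQ, _, b.equivFun.toLinearMap ∘ₗ (Ideal.Quotient.mkₐ R I).toLinearMap,
    sec ∘ₗ b.equivFun.symm.toLinearMap, fun x => ?_⟩
  simp [sec]
  rfl

variable {A B' : Type u} [CommRing A] [CommRing B'] [Algebra A B']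

/-- The maps into B' factoring through π, pulled back along multiplication. -/
def factorIdeal {n : ℕ} (π : (Fin n → A) →ₗ[A] B') : Ideal B' where
  carrier := {s | ∃ f : B' →ₗ[A] (Fin n → A), ∀ b, π (f b) = s * b}
  zero_mem' := ⟨0, fun b => by simp⟩
  add_mem' := by
    rintro x y ⟨f, hf⟩ ⟨g, hg⟩
    exact ⟨f + g, fun b => by simp [hf, hg, add_mul]⟩
  smul_mem' := by
    rintro c x ⟨f, hf⟩
    exact ⟨f ∘ₗ LinearMap.mulLeft A c, fun b => by simp [hf, mul_assoc, mul_left_comm]⟩

theorem flat_localization_tensor (A' : Type u) [CommRing A'] [Algebra A A'] (q : Ideal B') [q.IsPrime]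
    (hflat : Module.Flat A (Localization.AtPrime q)) (Q : Ideal (A' ⊗[A] B')) [Q.IsPrime]
    (hQq : ∀ b : B', (1 : A') ⊗ₜ[A] b ∈ Q ↔ b ∈ q) :
    Module.Flat A' (Localization.AtPrime Q) := by
  haveI : Module.Flat A (Localization.AtPrime q) := hflat
  letI : Algebra (A' ⊗[A] B') (A' ⊗[A] Localization.AtPrime q) :=
    (Algebra.TensorProduct.map (AlgHom.id A' A')
      (IsScalarTower.toAlgHom A B' (Localization.AtPrime q))).toRingHom.toAlgebra
  haveI : IsScalarTower A' (A' ⊗[A] B') (A' ⊗[A] Localization.AtPrime q) :=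
    IsScalarTower.of_algebraMap_eq fun a => by simp [RingHom.algebraMap_toAlgebra]
  haveI := IsLocalization.tensorProduct_tensorProduct_right A A' q.primeCompl (Localization.AtPrime q)
    (RingHom.ext fun x => by simp [RingHom.algebraMap_toAlgebra])
  have hu : ∀ s : q.primeCompl.map (Algebra.TensorProduct.includeRight (R := A) (A := A') (B := B')),
      IsUnit (algebraMap (A' ⊗[A] B') (Localization.AtPrime Q) s) := by
    rintro ⟨_, b, hb, rfl⟩
    exact IsLocalization.map_units (Localization.AtPrime Q)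
      (⟨(1 : A') ⊗ₜ[A] b, fun h => hb ((hQq b).mp h)⟩ : Q.primeCompl)
  letI : Algebra (A' ⊗[A] Localization.AtPrime q) (Localization.AtPrime Q) :=
    (IsLocalization.lift hu).toAlgebra
  haveI : IsScalarTower (A' ⊗[A] B') (A' ⊗[A] Localization.AtPrime q) (Localization.AtPrime Q) :=
    IsScalarTower.of_algebraMap_eq fun s => (IsLocalization.lift_eq hu s).symm
  haveI : IsScalarTower A' (A' ⊗[A] Localization.AtPrime q) (Localization.AtPrime Q) :=
    IsScalarTower.of_algebraMap_eq (R := A') (S := A' ⊗[A] Localization.AtPrime q)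
      (A := Localization.AtPrime Q) fun a => by
      rw [IsScalarTower.algebraMap_apply A' (A' ⊗[A] B') (A' ⊗[A] Localization.AtPrime q),
        ← IsScalarTower.algebraMap_apply (A' ⊗[A] B') (A' ⊗[A] Localization.AtPrime q) (Localization.AtPrime Q),
        ← IsScalarTower.algebraMap_apply A' (A' ⊗[A] B') (Localization.AtPrime Q)]
  haveI : IsLocalization (Q.primeCompl.map (algebraMap (A' ⊗[A] B') (A' ⊗[A] Localization.AtPrime q)))
      (Localization.AtPrime Q) :=
    IsLocalization.isLocalization_of_submonoid_le (A' ⊗[A] Localization.AtPrime q)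
      (Localization.AtPrime Q)
      (q.primeCompl.map (Algebra.TensorProduct.includeRight (R := A) (A := A') (B := B'))) Q.primeCompl
      (by
        rintro _ ⟨b, hb, rfl⟩
        exact fun h => hb ((hQq b).mp h))
  haveI : Module.Flat (A' ⊗[A] Localization.AtPrime q) (Localization.AtPrime Q) :=
    IsLocalization.flat (Localization.AtPrime Q)
      (Q.primeCompl.map (algebraMap (A' ⊗[A] B') (A' ⊗[A] Localization.AtPrime q)))
  exact Module.Flat.trans A' (A' ⊗[A] Localization.AtPrime q) (Localization.AtPrime Q)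

theorem factorIdeal_not_le (A' : Type u) [CommRing A'] [Algebra A A'] [HenselianLocalRing A']
    [IsNoetherianRing A'] [Module.Flat A A'] [IsNoetherianRing A] [Module.Finite A B']
    (q : Ideal B') [q.IsPrime] (hflat : Module.Flat A (Localization.AtPrime q))
    (hA' : (maximalIdeal A').comap (algebraMap A A') = q.comap (algebraMap A B'))
    {n : ℕ} (π : (Fin n → A) →ₗ[A] B') (hπ : Function.Surjective π) : ¬ factorIdeal π ≤ q := by
  intro hJ
  obtain ⟨t, ht1, ht2⟩ := SchFinLib.exists_prime_tensor (closedPoint A')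
    (⟨q, inferInstance⟩ : PrimeSpectrum B') (PrimeSpectrum.ext hA')
  let Q : Ideal (A' ⊗[A] B') := t.asIdeal
  haveI : Module.Finite A' (A' ⊗[A] B') := inferInstance
  haveI : Algebra.IsIntegral A' (A' ⊗[A] B') := inferInstance
  haveI hQm : Q.IsMaximal := by
    refine Ideal.isMaximal_of_isIntegral_of_isMaximal_comap (R := A') Q ?_
    rw [show Q.comap (algebraMap A' (A' ⊗[A] B')) = maximalIdeal A' from congrArg PrimeSpectrum.asIdeal ht1]
    infer_instance
  have hQq : ∀ b : B', (1 : A') ⊗ₜ[A] b ∈ Q ↔ b ∈ q := fun b =>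
    SetLike.ext_iff.mp (congrArg PrimeSpectrum.asIdeal ht2) b
  obtain ⟨e, heQ, m, f, g, hfg⟩ := exists_idem_factor A' (A' ⊗[A] B') Q (flat_localization_tensor A' q hflat Q hQq)
  let π' : A' ⊗[A] (Fin n → A) →ₗ[A'] A' ⊗[A] B' := π.baseChange A'
  have hπ' : Function.Surjective π' := LinearMap.lTensor_surjective A' hπ
  obtain ⟨l, hl⟩ := Module.projective_lifting_property π' g hπ'
  let μ : B' →ₗ[A] (B' →ₗ[A] B') := LinearMap.mul A B'
  let r : (B' →ₗ[A] (Fin n → A)) →ₗ[A] (B' →ₗ[A] B') := LinearMap.llcomp A B' (Fin n → A) B' π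
  haveI : Module.FinitePresentation A B' := Module.finitePresentation_of_finite A B'
  let b₁ := Module.FinitePresentation.isBaseChange_map A B' B' A'
  let b₂ := Module.FinitePresentation.isBaseChange_map A B' (Fin n → A) A'
  obtain ⟨z, hz⟩ := b₂.equiv.surjective (l ∘ₗ f)
  have hμ : ∀ x : A' ⊗[A] B', b₁.equiv (μ.baseChange A' x) = LinearMap.mulLeft A' x := fun x => by
    induction x using TensorProduct.induction_on with
    | zero => simp
    | add x y hx hy => rw [map_add, map_add, hx, hy]; ext b; simp [add_mul]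
    | tmul a b =>
      ext c
      simp [μ, IsBaseChange.equiv_tmul, TensorProduct.smul_tmul']
  have hr : ∀ w, b₁.equiv (r.baseChange A' w) = π' ∘ₗ b₂.equiv w := fun w => by
    induction w using TensorProduct.induction_on with
    | zero => simp
    | add x y hx hy => rw [map_add, map_add, map_add, hx, hy, LinearMap.comp_add]
    | tmul a h =>
      ext c
      simp [r, π', IsBaseChange.equiv_tmul]
  have heq : μ.baseChange A' e = r.baseChange A' z := by
    refine b₁.equiv.injective ?_
    rw [hμ, hr, hz, ← LinearMap.comp_assoc, hl]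
    exact LinearMap.ext fun x => by simp [hfg]
  -- e lies in the extension of the ideal
  let C := (B' →ₗ[A] B') ⧸ LinearMap.range r
  let ν : B' →ₗ[A] C := (LinearMap.range r).mkQ ∘ₗ μ
  have hν : ν.lTensor A' e = 0 := by
    have h1 : ν.baseChange A' e = (LinearMap.range r).mkQ.baseChange A' (μ.baseChange A' e) := by
      rw [← LinearMap.comp_apply, ← LinearMap.baseChange_comp]
    change ν.baseChange A' e = 0
    rw [h1, heq, ← LinearMap.comp_apply, ← LinearMap.baseChange_comp]
    rw [show (LinearMap.range r).mkQ ∘ₗ r = 0 from LinearMap.ext fun x => by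
      simp only [LinearMap.comp_apply, Submodule.mkQ_apply, LinearMap.zero_apply,
        Submodule.Quotient.mk_eq_zero]
      exact LinearMap.mem_range_self r x]
    simp
  obtain ⟨w, hw⟩ := (Module.Flat.lTensor_exact A' (LinearMap.exact_subtype_ker_map ν) e).mp hν
  refine heQ ?_
  rw [← hw]
  clear hw
  induction w using TensorProduct.induction_on with
  | zero => simp
  | add x y hx hy => rw [map_add]; exact Q.add_mem hx hy
  | tmul a j =>
    have hj : (j : B') ∈ factorIdeal π := by
      obtain ⟨fj, hfj⟩ := (Submodule.Quotient.mk_eq_zero _).mp (LinearMap.mem_ker.mp j.2)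
      exact ⟨fj, fun b => LinearMap.congr_fun hfj b⟩
    rw [LinearMap.lTensor_tmul, Submodule.subtype_apply,
      show a ⊗ₜ[A] (j : B') = (a ⊗ₜ[A] (1 : B')) * ((1 : A') ⊗ₜ[A] (j : B')) by simp]
    exact Q.mul_mem_left _ ((hQq _).mpr (hJ hj))

theorem exists_notMem_factor [IsNoetherianRing A] [Module.Finite A B'] (q : Ideal B') [q.IsPrime]
    (hflat : Module.Flat A (Localization.AtPrime q)) :
    ∃ s ∉ q, ∃ (n : ℕ) (f : B' →ₗ[A] (Fin n → A)) (g : (Fin n → A) →ₗ[A] B'),
      ∀ b, g (f b) = s * b := by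
  obtain ⟨n, π, hπ⟩ := Module.Finite.exists_fin' A B'
  suffices hJ : ¬ factorIdeal π ≤ q by
    obtain ⟨s, ⟨f, hf⟩, hs⟩ := SetLike.not_le_iff_exists.mp hJ
    exact ⟨s, hs, n, f, π, hf⟩
  let Ap := Localization.AtPrime (q.comap (algebraMap A B'))
  haveI : HenselianLocalRing (AdicCompletion (maximalIdeal Ap) Ap) :=
    BrnchLib.henselianLocalRing_completion Ap
  haveI : IsNoetherianRing (AdicCompletion (maximalIdeal Ap) Ap) := FlatLoc6.isNoetherianRing_cpl Ap
  haveI : Module.FaithfullyFlat Ap (AdicCompletion (maximalIdeal Ap) Ap) := FlatLoc6.faithfullyFlat_cpl Ap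
  haveI : Module.Flat A (AdicCompletion (maximalIdeal Ap) Ap) := Module.Flat.trans A Ap _
  refine factorIdeal_not_le (AdicCompletion (maximalIdeal Ap) Ap) q hflat ?_ π hπ
  rw [IsScalarTower.algebraMap_eq A Ap (AdicCompletion (maximalIdeal Ap) Ap), ← Ideal.comap_comap,
    maximalIdeal_comap (algebraMap Ap (AdicCompletion (maximalIdeal Ap) Ap))]
  exact IsLocalization.AtPrime.comap_maximalIdeal Ap _

end Groth.Agent.QFD
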