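import Mathlib
import Groth.Agent.QFD.BaseChange
import Groth.Agent.QFD.Factor

/-!
Facts about a factorisation A → B' → B with Spec B → Spec B' an open immersion.
-/

set_option autoImplicit false
set_option linter.style.haveILetI false
set_option linter.unusedSectionVars false

universe u

open TensorProduct CategoryTheory AlgebraicGeometry

namespace Groth.Agent.QFD

variable {A B' B : Type u} [CommRing A] [CommRing B'] [CommRing B] [Algebra A B'] [Algebra B' B]

theorem localRingHom_bijective_of_isOpenImmersion {R S : CommRingCat.{u}} (φ : R ⟶ S)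
    [IsOpenImmersion (Spec.map φ)] (p : PrimeSpectrum S) :
    Function.Bijective (Localization.localRingHom _ p.asIdeal φ.hom rfl) := by
  have hiso : ∀ x, IsIso ((Spec.map φ).stalkMap x) := (IsOpenImmersion.iff_isIso_stalkMap.mp ‹_›).2
  haveI := hiso p
  have h1 : Function.Bijective ((Spec.map φ).stalkMap p).hom := ConcreteCategory.bijective_of_isIso _
  have hresp : RingHom.RespectsIso (fun {R S} [CommRing R] [CommRing S] (f : R →+* S) => Function.Bijective f) :=
    ⟨fun f e hf => e.bijective.comp hf, fun f e hf => hf.comp e.bijective⟩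
  exact (hresp.arrow_mk_iso_iff (Scheme.arrowStalkMapSpecIso φ p)).mp h1

theorem localRingHom_bijective (hf : QFDual.IsQFFactor A B' B) (Q : Ideal B) [Q.IsPrime] :
    Function.Bijective (Localization.localRingHom (Q.comap (algebraMap B' B)) Q (algebraMap B' B) rfl) := by
  haveI := hf.isOpenImmersion
  exact localRingHom_bijective_of_isOpenImmersion (CommRingCat.ofHom (algebraMap B' B)) ⟨Q, inferInstance⟩

theorem flat_of_isQFFactor (hf : QFDual.IsQFFactor A B' B) : Module.Flat B' B := by
  haveI := hf.isOpenImmersion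
  exact RingHom.flat_algebraMap_iff.mp
    (Flat.SpecMap_iff.mp (inferInstance : Flat (Spec.map (CommRingCat.ofHom (algebraMap B' B)))))

/-- The localisation of B' below a prime of B, as an algebra equivalence. -/
noncomputable def localEquiv (hf : QFDual.IsQFFactor A B' B) [Algebra A B] [IsScalarTower A B' B]
    (Q : Ideal B) [Q.IsPrime] :
    Localization.AtPrime (Q.comap (algebraMap B' B)) ≃ₐ[A] Localization.AtPrime Q :=
  AlgEquiv.ofRingEquiv (f := RingEquiv.ofBijective _ (localRingHom_bijective hf Q)) fun a => by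
    rw [IsScalarTower.algebraMap_apply A B' (Localization.AtPrime (Q.comap (algebraMap B' B))),
      RingEquiv.ofBijective_apply, Localization.localRingHom_to_map, ← IsScalarTower.algebraMap_apply A B' B,
      ← IsScalarTower.algebraMap_apply A B (Localization.AtPrime Q)]

theorem flat_atPrime_of_isQFFactor (hf : QFDual.IsQFFactor A B' B) [Algebra A B] [IsScalarTower A B' B]
    [Module.Flat A B] (Q : Ideal B) [Q.IsPrime] :
    Module.Flat A (Localization.AtPrime (Q.comap (algebraMap B' B))) := by
  haveI : Module.Flat B (Localization.AtPrime Q) := IsLocalization.flat _ Q.primeCompl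
  haveI : Module.Flat A (Localization.AtPrime Q) := Module.Flat.trans A B _
  exact Module.Flat.of_linearEquiv (localEquiv hf Q).toLinearEquiv

/-- The elements of B' multiplication by which factors through a finite free module. -/
def factorSet (A B' : Type u) [CommRing A] [CommRing B'] [Algebra A B'] : Set B' :=
  {s | ∃ (n : ℕ) (f : B' →ₗ[A] (Fin n → A)) (g : (Fin n → A) →ₗ[A] B'), ∀ b, g (f b) = s * b}

theorem span_factorSet_eq_top [IsNoetherianRing A] (hf : QFDual.IsQFFactor A B' B) [Algebra A B]
    [IsScalarTower A B' B] [Module.Flat A B] :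
    Ideal.span (algebraMap B' B '' factorSet A B') = ⊤ := by
  haveI := hf.finite
  by_contra h
  obtain ⟨Q, hQ, hle⟩ := Ideal.exists_le_maximal _ h
  obtain ⟨s, hs, hfac⟩ := exists_notMem_factor _ (flat_atPrime_of_isQFFactor hf Q)
  exact hs (Ideal.mem_comap.mpr (hle (Ideal.subset_span ⟨s, hfac, rfl⟩)))

variable {A₁ B'₁ : Type u} [CommRing A₁] [CommRing B'₁]
  [Algebra A A₁] [Algebra B' B'₁] [Algebra A₁ B'₁] [Algebra A B'₁]
  [IsScalarTower A A₁ B'₁] [IsScalarTower A B' B'₁]

theorem omegaBC_bijective_of_flat [IsNoetherianRing A] [Algebra A B] [IsScalarTower A B' B]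
    [Module.Flat A B] (hf : QFDual.IsQFFactor A B' B) (h : Algebra.IsPushout A A₁ B' B'₁)
    (B₁ : Type u) [CommRing B₁] [Algebra B B₁] [Algebra B'₁ B₁] [Algebra B' B₁]
    [IsScalarTower B' B'₁ B₁] [IsScalarTower B' B B₁] :
    Function.Bijective (QFDual.omegaBC (B₁ := B₁) h) := by
  refine omegaBC_bijective h B₁ (baseChange_bijective_of_span _ B₁
    (algebraMap B' B'₁ '' ((fun s => s * s) '' factorSet A B')) ?_ ?_)
  · have h1 : Ideal.span (algebraMap B B₁ '' ((fun s => s ^ 2) '' (algebraMap B' B '' factorSet A B'))) = ⊤ := by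
      rw [← Ideal.map_span, Ideal.span_pow_eq_top _ (span_factorSet_eq_top hf) 2, Ideal.map_top]
    rw [← h1]
    congr 1
    simp only [Set.image_image, pow_two]
    refine Set.image_congr fun s _ => ?_
    rw [← IsScalarTower.algebraMap_apply B' B'₁ B₁, map_mul, IsScalarTower.algebraMap_apply B' B B₁,
      map_mul]
  · rintro _ ⟨_, ⟨s, ⟨n, f, g, hfg⟩, rfl⟩, rfl⟩
    exact bcLin_factor h f g hfg

end Groth.Agent.QFD
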