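import Mathlib
import Groth.Agent.QFD.Open
import Groth.Agent.QFD.Invert
import Groth.Agent.QFD.Frobenius
import Groth.Agent.S9145

/-!
The relative dualizing module of a flat quasi-finite map is invertible iff it is so on the fibres.
-/

set_option autoImplicit false
set_option linter.style.haveILetI false
set_option linter.unusedSectionVars false

universe u

open TensorProduct IsLocalRing CategoryTheory AlgebraicGeometry

namespace Groth.Agent.QFD

variable {A B' B : Type u} [CommRing A] [CommRing B'] [CommRing B] [Algebra A B'] [Algebra B' B]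

theorem isLocalization_atPrime_comap (hf : QFDual.IsQFFactor A B' B) (Q : Ideal B) [Q.IsPrime] :
    IsLocalization (Q.comap (algebraMap B' B)).primeCompl (Localization.AtPrime Q) := by
  refine IsLocalization.isLocalization_of_algEquiv _
    (AlgEquiv.ofRingEquiv (f := RingEquiv.ofBijective _ (localRingHom_bijective hf Q)) fun a => ?_)
  rw [RingEquiv.ofBijective_apply, Localization.localRingHom_to_map,
    ← IsScalarTower.algebraMap_apply B' B]

theorem finite_omega_of_finite [IsNoetherianRing A] [Module.Finite A B'] :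
    Module.Finite B' (Disc.Omega A B') := by
  classical
  obtain ⟨n, π, hπ⟩ := Module.Finite.exists_fin' A B'
  let ev : (B' →ₗ[A] A) →ₗ[A] (Fin n → A) :=
    { toFun := fun φ i => φ (π (Pi.single i 1)), map_add' := fun _ _ => rfl, map_smul' := fun _ _ => rfl }
  haveI : Module.Finite A (B' →ₗ[A] A) := by
    refine Module.Finite.of_injective ev fun φ ψ h => ?_
    refine LinearMap.ext fun b => ?_
    obtain ⟨c, rfl⟩ := hπ b
    rw [pi_eq_sum_univ' c, map_sum, map_sum, map_sum]
    refine Finset.sum_congr rfl fun i _ => ?_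
    rw [map_smul, map_smul, map_smul]
    exact congrArg _ (congrFun h i)
  obtain ⟨T, hT⟩ := Module.Finite.fg_top (R := A) (M := B' →ₗ[A] A)
  refine ⟨⟨T.image fun φ => (⟨φ⟩ : Disc.Omega A B'), ?_⟩⟩
  rw [eq_top_iff]
  rintro ⟨φ⟩ -
  have hφ : φ ∈ Submodule.span A (T : Set (B' →ₗ[A] A)) := hT ▸ Submodule.mem_top
  refine Submodule.span_induction (p := fun φ _ => (⟨φ⟩ : Disc.Omega A B') ∈
    Submodule.span B' (↑(T.image fun φ => (⟨φ⟩ : Disc.Omega A B')) : Set (Disc.Omega A B')))
    (fun φ hφ => Submodule.subset_span (Finset.mem_coe.mpr (Finset.mem_image_of_mem _ hφ)))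
    (Submodule.zero_mem _) (fun a b _ _ ha hb => Submodule.add_mem _ ha hb)
    (fun r a _ ha => by rw [omega_smul_eq]; exact Submodule.smul_mem _ _ ha) hφ

theorem finite_omega' [IsNoetherianRing A] (hf : QFDual.IsQFFactor A B' B) :
    Module.Finite B (QFDual.omega A B' B) := by
  haveI := hf.finite
  haveI := finite_omega_of_finite (A := A) (B' := B')
  exact inferInstance

variable [Algebra A B] [IsScalarTower A B' B]

theorem flat_omega_atPrime [IsNoetherianRing A] [Module.Flat A B] (hf : QFDual.IsQFFactor A B' B)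
    (Q : Ideal B) [Q.IsPrime] : Module.Flat A (QFDual.omega A B' (Localization.AtPrime Q)) := by
  haveI := hf.finite
  obtain ⟨s, hs, n, f, g, hfg⟩ := exists_notMem_factor _ (flat_atPrime_of_isQFFactor hf Q)
  letI : Module A (Disc.Omega A B') := Module.compHom _ (algebraMap A B')
  haveI : IsScalarTower A B' (Disc.Omega A B') := IsScalarTower.of_algebraMap_smul fun _ _ => rfl
  haveI := isLocalization_atPrime_comap hf Q
  haveI : IsLocalizedModule (Q.comap (algebraMap B' B)).primeCompl
      (TensorProduct.mk B' (Localization.AtPrime Q) (Disc.Omega A B') 1) :=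
    (isLocalizedModule_iff_isBaseChange _ (Localization.AtPrime Q) _).mpr (TensorProduct.isBaseChange _ _ _)
  have hev : ∀ (a : A) (φ : Disc.Omega A B') (y : B'),
      (a • φ).toLinearMap y = a * φ.toLinearMap y := fun a φ y => by
    change φ.toLinearMap (algebraMap A B' a * y) = _
    rw [← Algebra.smul_def, map_smul, smul_eq_mul]
  refine flat_localized_of_factor (Q.comap (algebraMap B' B)).primeCompl
    (TensorProduct.mk B' (Localization.AtPrime Q) (Disc.Omega A B') 1) hs (n := n)
    { toFun := fun φ i => φ.toLinearMap (g (Pi.single i 1))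
      map_add' := fun _ _ => rfl
      map_smul' := fun a φ => funext fun i => hev a φ _ }
    { toFun := fun c => ∑ i, c i • (⟨LinearMap.proj i ∘ₗ f⟩ : Disc.Omega A B')
      map_add' := fun c d => by simp [add_smul, Finset.sum_add_distrib]
      map_smul' := fun a c => by simp [Finset.smul_sum, smul_smul] } fun φ => ?_
  refine Disc.Omega.ext (LinearMap.ext fun b => ?_)
  simp only [LinearMap.coe_mk, AddHom.coe_mk, omega_sum_toLinearMap, LinearMap.sum_apply, hev,
    Disc.Omega.smul_toLinearMap_apply]
  rw [← hfg b]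
  conv_rhs => rw [pi_eq_sum_univ' (f b), map_sum, map_sum]
  refine Finset.sum_congr rfl fun i _ => ?_
  rw [map_smul, map_smul, smul_eq_mul, mul_comm]
  rfl

variable {κ B'₁ B₁ : Type u} [CommRing κ] [CommRing B'₁] [CommRing B₁] [Algebra A κ]
  [Algebra B' B'₁] [Algebra κ B'₁] [Algebra A B'₁] [IsScalarTower A κ B'₁] [IsScalarTower A B' B'₁]
  [Algebra B B₁] [Algebra κ B₁] [Algebra A B₁] [IsScalarTower A κ B₁] [IsScalarTower A B B₁]
  [Algebra B'₁ B₁] [Algebra B' B₁] [IsScalarTower B' B'₁ B₁] [IsScalarTower B' B B₁]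
  [IsScalarTower κ B'₁ B₁]

theorem isQFFactor_baseChange (hf : QFDual.IsQFFactor A B' B) (h : Algebra.IsPushout A κ B' B'₁)
    (hB : Algebra.IsPushout A κ B B₁) : QFDual.IsQFFactor κ B'₁ B₁ := by
  haveI := hf.finite
  haveI : Algebra.IsPushout A B' κ B'₁ := h.symm
  haveI : IsScalarTower A B'₁ B₁ := IsScalarTower.of_algebraMap_eq fun a => by
    rw [IsScalarTower.algebraMap_apply A B' B'₁, ← IsScalarTower.algebraMap_apply B' B'₁ B₁,
      IsScalarTower.algebraMap_apply B' B B₁, ← IsScalarTower.algebraMap_apply A B' B,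
      ← IsScalarTower.algebraMap_apply A B B₁]
  haveI h2 : Algebra.IsPushout B' B B'₁ B₁ := (Algebra.IsPushout.comp_iff A B' κ B'₁).mp hB.symm
  refine ⟨Module.Finite.equiv (Algebra.IsPushout.equiv A κ B' B'₁).toLinearEquiv, ?_⟩
  exact MorphismProperty.of_isPullback (P := @IsOpenImmersion)
    (isPullback_SpecMap_of_isPushout _ _ _ _ (CommRingCat.isPushout_of_isPushout B' B B'₁ B₁))
    hf.isOpenImmersion

omit [Algebra A B] [IsScalarTower A B' B] in
theorem omega_invertible_of_gorenstein {k C C₁ : Type u} [Field k] [CommRing C] [CommRing C₁]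
    [Algebra k C] [Algebra C C₁] (hf : QFDual.IsQFFactor k C C₁)
    (hG : ∀ (Q : Ideal C₁) [Q.IsPrime], LocCoh.IsGorensteinLocalRing (Localization.AtPrime Q)) :
    Module.Invertible C₁ (QFDual.omega k C C₁) := by
  haveI := hf.finite
  haveI : IsNoetherianRing C := IsNoetherianRing.of_finite k C
  haveI := finite_omega_of_finite (A := k) (B' := C)
  haveI : Module.FinitePresentation C (Disc.Omega k C) := Module.finitePresentation_of_finite C _
  refine invertible_of_forall_maximal fun Q _ => ?_
  haveI := isLocalization_atPrime_comap hf Q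
  let θ := IsLocalization.algEquiv (Q.comap (algebraMap C C₁)).primeCompl
    (Localization.AtPrime (Q.comap (algebraMap C C₁))) (Localization.AtPrime Q)
  haveI : IsNoetherianRing (Localization.AtPrime (Q.comap (algebraMap C C₁))) :=
    IsLocalization.isNoetherianRing (Q.comap (algebraMap C C₁)).primeCompl _ inferInstance
  haveI := hG Q
  obtain ⟨e⟩ := exists_omega_atPrime_equiv (k := k) (Q.comap (algebraMap C C₁))
    (LC.gorenstein_of_ringEquiv θ.symm.toRingEquiv)
  letI : Algebra (Localization.AtPrime (Q.comap (algebraMap C C₁))) (Localization.AtPrime Q) :=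
    θ.toAlgHom.toRingHom.toAlgebra
  haveI : IsScalarTower C (Localization.AtPrime (Q.comap (algebraMap C C₁))) (Localization.AtPrime Q) :=
    IsScalarTower.of_algebraMap_eq fun c => (θ.commutes c).symm
  exact ⟨(AlgebraTensorModule.cancelBaseChange C C₁ (Localization.AtPrime Q) (Localization.AtPrime Q)
      (Disc.Omega k C)).trans
    ((AlgebraTensorModule.cancelBaseChange C (Localization.AtPrime (Q.comap (algebraMap C C₁)))
      (Localization.AtPrime Q) (Localization.AtPrime Q) (Disc.Omega k C)).symm.trans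
    ((AlgebraTensorModule.congr (LinearEquiv.refl (Localization.AtPrime Q) (Localization.AtPrime Q)) e).trans
      (AlgebraTensorModule.rid _ (Localization.AtPrime Q) (Localization.AtPrime Q))))⟩

end Groth.Agent.QFD

namespace Groth.Agent.QFD

variable {A B' B : Type u} [CommRing A] [CommRing B'] [CommRing B] [Algebra A B'] [Algebra B' B]
  [Algebra A B] [IsScalarTower A B' B]

theorem nonempty_equiv_of_invertible_local (R M : Type u) [CommRing R] [IsLocalRing R] [AddCommGroup M]
    [Module R M] [Module.Invertible R M] : Nonempty (M ≃ₗ[R] R) := by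
  haveI : Module.Free R M := Module.free_of_flat_of_isLocalRing
  exact Module.Invertible.free_iff_linearEquiv.mp inferInstance

theorem invertible_omega_of_fibres [IsNoetherianRing A] [IsNoetherianRing B] [Module.Flat A B]
    (hf : QFDual.IsQFFactor A B' B)
    (H : ∀ (p : Ideal A) [p.IsPrime] (B'₁ B₁ : Type u) [CommRing B'₁] [CommRing B₁] [Algebra B' B'₁]
      [Algebra p.ResidueField B'₁] [Algebra A B'₁] [IsScalarTower A p.ResidueField B'₁] [IsScalarTower A B' B'₁]
      [Algebra B B₁] [Algebra p.ResidueField B₁] [Algebra A B₁] [IsScalarTower A p.ResidueField B₁]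
      [IsScalarTower A B B₁] [Algebra B'₁ B₁] [Algebra B' B₁] [IsScalarTower B' B'₁ B₁]
      [IsScalarTower B' B B₁] [IsScalarTower p.ResidueField B'₁ B₁],
      Algebra.IsPushout A p.ResidueField B' B'₁ → Algebra.IsPushout A p.ResidueField B B₁ →
        Module.Invertible B₁ (QFDual.omega p.ResidueField B'₁ B₁)) :
    Module.Invertible B (QFDual.omega A B' B) := by
  haveI := hf.finite
  haveI := finite_omega' hf
  haveI : Module.FinitePresentation B (QFDual.omega A B' B) := Module.finitePresentation_of_finite B _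
  refine invertible_of_forall_maximal fun Q _ => ?_
  let R := Localization.AtPrime Q
  haveI : IsNoetherianRing R := IsLocalization.isNoetherianRing Q.primeCompl R inferInstance
  let p : Ideal A := Q.comap (algebraMap A B)
  have hpm : p = (maximalIdeal R).comap (algebraMap A R) := by
    rw [IsScalarTower.algebraMap_eq A B R, ← Ideal.comap_comap,
      show (maximalIdeal R).comap (algebraMap B R) = Q from IsLocalization.AtPrime.under_maximalIdeal R Q]
  have hp : p.map (algebraMap A R) ≤ maximalIdeal R := Ideal.map_le_iff_le_comap.mpr hpm.le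
  let Rb := R ⧸ p.map (algebraMap A R)
  haveI : Nontrivial Rb := Ideal.Quotient.nontrivial_iff.mpr fun h =>
    (maximalIdeal.isMaximal R).ne_top (top_unique (h ▸ hp))
  haveI : IsLocalRing Rb := IsLocalRing.of_surjective' _ Ideal.Quotient.mk_surjective
  let lift : p.ResidueField →ₐ[A] Rb := Ideal.ResidueField.liftₐ p (Algebra.ofId A Rb)
    (fun a ha => Ideal.Quotient.eq_zero_iff_mem.mpr (Ideal.mem_map_of_mem _ ha))
    (fun a ha => by
      have hu : IsUnit (algebraMap A R a) := by
        by_contra hu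
        exact ha (hpm ▸ Ideal.mem_comap.mpr hu)
      exact hu.map (Ideal.Quotient.mk (p.map (algebraMap A R))))
  letI : Algebra B' (p.ResidueField ⊗[A] B') := Algebra.TensorProduct.rightAlgebra
  letI : Algebra B (p.ResidueField ⊗[A] B) := Algebra.TensorProduct.rightAlgebra
  let tm : p.ResidueField ⊗[A] B' →ₐ[p.ResidueField] p.ResidueField ⊗[A] B :=
    Algebra.TensorProduct.map (AlgHom.id _ _) (IsScalarTower.toAlgHom A B' B)
  letI : Algebra (p.ResidueField ⊗[A] B') (p.ResidueField ⊗[A] B) := tm.toRingHom.toAlgebra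
  letI : Algebra B' (p.ResidueField ⊗[A] B) :=
    ((Algebra.TensorProduct.includeRight (R := A) (A := p.ResidueField)).toRingHom.comp
      (algebraMap B' B)).toAlgebra
  haveI : IsScalarTower B' (p.ResidueField ⊗[A] B') (p.ResidueField ⊗[A] B) :=
    IsScalarTower.of_algebraMap_eq fun x => by
      simp [tm, RingHom.algebraMap_toAlgebra]
  haveI : IsScalarTower B' B (p.ResidueField ⊗[A] B) := IsScalarTower.of_algebraMap_eq fun x => rfl
  haveI : IsScalarTower p.ResidueField (p.ResidueField ⊗[A] B') (p.ResidueField ⊗[A] B) :=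
    IsScalarTower.of_algebraMap_eq fun x => (tm.commutes x).symm
  have hpo : Algebra.IsPushout A p.ResidueField B' (p.ResidueField ⊗[A] B') := inferInstance
  haveI hinv := H p (p.ResidueField ⊗[A] B') (p.ResidueField ⊗[A] B) hpo inferInstance
  let g : p.ResidueField ⊗[A] B →ₐ[A] Rb :=
    Algebra.TensorProduct.productMap lift (IsScalarTower.toAlgHom A B Rb)
  letI : Algebra (p.ResidueField ⊗[A] B) Rb := g.toRingHom.toAlgebra
  letI : Algebra (p.ResidueField ⊗[A] B') Rb :=
    (g.toRingHom.comp tm.toRingHom).toAlgebra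
  haveI : IsScalarTower (p.ResidueField ⊗[A] B') (p.ResidueField ⊗[A] B) Rb :=
    IsScalarTower.of_algebraMap_eq fun x => rfl
  haveI : IsScalarTower B' (p.ResidueField ⊗[A] B') Rb := IsScalarTower.of_algebraMap_eq fun x => by
    change algebraMap B' Rb x = g (tm (1 ⊗ₜ x))
    simp [g, tm, ← IsScalarTower.algebraMap_apply B' B Rb]
  let e₁ : QFDual.omega A B' Rb ≃ₗ[Rb] QFDual.omega p.ResidueField (p.ResidueField ⊗[A] B') Rb :=
    LinearEquiv.ofBijective _ (omegaBC_bijective_of_flat hf hpo Rb)
  let e₂ : Rb ⊗[p.ResidueField ⊗[A] B] QFDual.omega p.ResidueField (p.ResidueField ⊗[A] B') (p.ResidueField ⊗[A] B)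
      ≃ₗ[Rb] QFDual.omega p.ResidueField (p.ResidueField ⊗[A] B') Rb :=
    AlgebraTensorModule.cancelBaseChange (p.ResidueField ⊗[A] B') (p.ResidueField ⊗[A] B) Rb Rb _
  let e₃ : Rb ⊗[R] QFDual.omega A B' R ≃ₗ[Rb] QFDual.omega A B' Rb :=
    AlgebraTensorModule.cancelBaseChange B' R Rb Rb (Disc.Omega A B')
  haveI : Module.Invertible Rb (Rb ⊗[R] QFDual.omega A B' R) :=
    Module.Invertible.congr (e₂.trans (e₁.symm.trans e₃.symm))
  obtain ⟨θ⟩ := nonempty_equiv_of_invertible_local Rb (Rb ⊗[R] QFDual.omega A B' R)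
  haveI := flat_omega_atPrime hf Q
  haveI := finite_omega_of_finite (A := A) (B' := B')
  obtain ⟨e⟩ := nonempty_equiv_of_fibre (A := A) (R := R) (M := QFDual.omega A B' R) p hp
    (θ.restrictScalars R)
  exact ⟨(AlgebraTensorModule.cancelBaseChange B' B R R (Disc.Omega A B')).trans e⟩

theorem invertible_omega_fibre [IsNoetherianRing A] [Module.Flat A B] (hf : QFDual.IsQFFactor A B' B)
    {κ B'₁ B₁ : Type u} [CommRing κ] [CommRing B'₁] [CommRing B₁] [Algebra A κ]
    [Algebra B' B'₁] [Algebra κ B'₁] [Algebra A B'₁] [IsScalarTower A κ B'₁] [IsScalarTower A B' B'₁]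
    [Algebra B B₁] [Algebra B'₁ B₁] [Algebra B' B₁] [IsScalarTower B' B'₁ B₁] [IsScalarTower B' B B₁]
    (h : Algebra.IsPushout A κ B' B'₁) [Module.Invertible B (QFDual.omega A B' B)] :
    Module.Invertible B₁ (QFDual.omega κ B'₁ B₁) := by
  let e₁ : QFDual.omega A B' B₁ ≃ₗ[B₁] QFDual.omega κ B'₁ B₁ :=
    LinearEquiv.ofBijective _ (omegaBC_bijective_of_flat hf h B₁)
  exact Module.Invertible.congr
    ((AlgebraTensorModule.cancelBaseChange B' B B₁ B₁ (Disc.Omega A B')).trans e₁)

theorem invertible_omega_of_syntomic [IsNoetherianRing A]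
    (hf : QFDual.IsQFFactor A B' B) (hs : Synt.IsSyntomic A B) :
    Module.Invertible B (QFDual.omega A B' B) := by
  obtain ⟨hflat, hfp, hfib⟩ := hs
  haveI := hflat
  haveI : IsNoetherianRing B := Algebra.FiniteType.isNoetherianRing A B
  refine invertible_omega_of_fibres hf ?_
  intro p _ B'₁ B₁ _ _ _ _ _ _ _ _ _ _ _ _ _ _ _ _ _ h hB
  refine omega_invertible_of_gorenstein (isQFFactor_baseChange hf h hB) fun Q _ => ?_
  obtain ⟨hft, hloc⟩ := hfib ⟨p, inferInstance⟩
  haveI := hft
  have hci := ((S9145.result p.ResidueField (p.Fiber B)).1.mp (hfib ⟨p, inferInstance⟩))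
  haveI := hB
  let e : p.ResidueField ⊗[A] B ≃+* B₁ := (Algebra.IsPushout.equiv A p.ResidueField B B₁).toRingEquiv
  let Q' : PrimeSpectrum (p.Fiber B) := ⟨Q.comap e.toRingHom, inferInstance⟩
  haveI : LocCoh.IsGorensteinLocalRing (Localization.AtPrime Q'.asIdeal) := gorenstein_of_isCIOver (hci Q')
  haveI : IsNoetherianRing (p.Fiber B) := Algebra.FiniteType.isNoetherianRing p.ResidueField _
  haveI : IsNoetherianRing B₁ := isNoetherianRing_of_ringEquiv _ e
  haveI : IsNoetherianRing (Localization.AtPrime Q) := IsLocalization.isNoetherianRing Q.primeCompl _ inferInstance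
  haveI : IsNoetherianRing (Localization.AtPrime Q'.asIdeal) :=
    IsLocalization.isNoetherianRing Q'.asIdeal.primeCompl _ inferInstance
  refine LC.gorenstein_of_ringEquiv (A := Localization.AtPrime Q'.asIdeal)
    (IsLocalization.ringEquivOfRingEquiv (M := Q'.asIdeal.primeCompl) (T := Q.primeCompl)
      (Localization.AtPrime Q'.asIdeal) (Localization.AtPrime Q) e ?_)
  ext x
  rw [Submonoid.mem_map]
  refine ⟨fun ⟨y, hy, hyx⟩ => hyx ▸ hy, fun hx => ⟨e.symm x, ?_, e.apply_symm_apply x⟩⟩
  intro h'
  exact hx (by simpa [Q'] using h')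

end Groth.Agent.QFD
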