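import Mathlib
import Groth.Agent.QFD.FibreFlat
import Groth.Agent.LC.GorRing

/-!
Invertibility of the dualizing module of a finite algebra over a field forces the Gorenstein property.
-/

set_option autoImplicit false
set_option linter.style.haveILetI false
set_option linter.unusedSectionVars false

universe u

open IsLocalRing TensorProduct

namespace Groth.Agent.QFD

/-- A finite local algebra over a field with a generating functional is Gorenstein. -/
theorem gorenstein_of_frobenius {k L : Type u} [Field k] [CommRing L] [IsLocalRing L] [Algebra k L]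
    [Module.Finite k L] (lam : L →ₗ[k] k)
    (h : Function.Bijective fun c : L => lam ∘ₗ LinearMap.mulLeft k c) :
    LocCoh.IsGorensteinLocalRing L := by
  haveI : IsNoetherianRing L := IsNoetherianRing.of_finite k L
  haveI : IsArtinianRing L := isArtinian_of_tower k inferInstance
  have hnil : IsNilpotent (maximalIdeal L) :=
    (isArtinianRing_iff_isNilpotent_maximalIdeal L).1 inferInstance
  obtain ⟨s, hs0, hs⟩ : ∃ s : L, s ≠ 0 ∧ ∀ r ∈ maximalIdeal L, r * s = 0 := by
    rcases LC.exists_regular_or_socle L with ⟨x, hx, hreg⟩ | h'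
    · exfalso
      obtain ⟨y, hy⟩ := IsArtinian.surjective_of_injective_endomorphism (LinearMap.mulLeft L x) hreg 1
      rw [LinearMap.mulLeft_apply] at hy
      exact (IsLocalRing.mem_maximalIdeal x).mp hx (IsUnit.of_mul_eq_one y hy)
    · exact h'
  refine LC.gorenstein_of_socle hnil hs0 hs fun t ht => ?_
  by_contra hne
  let S : Submodule k L := (Ideal.span {s}).restrictScalars k
  have htS : t ∉ S := fun h' => hne (by
    obtain ⟨c, hc⟩ := Ideal.mem_span_singleton'.mp h'
    exact ⟨c, hc.symm⟩)
  obtain ⟨ψ, hψt, hψS⟩ := Submodule.exists_dual_map_eq_bot_of_notMem htS inferInstance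
  have hS0 : ∀ x ∈ S, ψ x = 0 := fun x hx => by
    have h1 : ψ x ∈ S.map ψ := Submodule.mem_map_of_mem hx
    rwa [hψS, Submodule.mem_bot] at h1
  obtain ⟨c, hc⟩ := h.2 ψ
  have hc' : ∀ x, ψ x = lam (c * x) := fun x => (LinearMap.congr_fun hc x).symm
  by_cases hcu : IsUnit c
  · obtain ⟨d, hd⟩ := hcu.exists_left_inv
    refine hs0 (h.1 (LinearMap.ext fun x => ?_))
    have h1 := hS0 (d * x * s) (Ideal.mul_mem_left _ _ (Ideal.mem_span_singleton_self s))
    rw [hc', ← mul_assoc, ← mul_assoc, mul_comm c d, hd, one_mul] at h1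
    simpa [mul_comm] using h1
  · exact hψt (by rw [hc', ht c hcu, map_zero])

theorem gorenstein_atPrime_of_invertible {k C : Type u} [Field k] [CommRing C] [Algebra k C]
    [Module.Finite k C] [Module.Invertible C (Disc.Omega k C)] (q : Ideal C) [q.IsPrime] :
    LocCoh.IsGorensteinLocalRing (Localization.AtPrime q) := by
  haveI : IsArtinianRing C := isArtinian_of_tower k inferInstance
  have hsurj : Function.Surjective (algebraMap C (Localization.AtPrime q)) :=
    IsArtinianRing.localization_surjective q.primeCompl _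
  let π : C →ₗ[k] Localization.AtPrime q := (IsScalarTower.toAlgHom k C (Localization.AtPrime q)).toLinearMap
  haveI : Module.Finite k (Localization.AtPrime q) := Module.Finite.of_surjective π hsurj
  haveI : Module.Invertible (Localization.AtPrime q) (Localization.AtPrime q ⊗[C] Disc.Omega k C) := inferInstance
  obtain ⟨θ⟩ := nonempty_equiv_of_invertible_local (Localization.AtPrime q)
    (Localization.AtPrime q ⊗[C] Disc.Omega k C)
  haveI : IsLocalizedModule q.primeCompl (TensorProduct.mk C (Localization.AtPrime q) (Disc.Omega k C) 1) :=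
    (isLocalizedModule_iff_isBaseChange _ (Localization.AtPrime q) _).mpr (TensorProduct.isBaseChange _ _ _)
  let ext : (Localization.AtPrime q →ₗ[k] k) → Localization.AtPrime q := fun ψ =>
    θ (1 ⊗ₜ[C] (⟨ψ ∘ₗ π⟩ : Disc.Omega k C))
  have hmul : ∀ (d : C) ψ, (⟨(ψ ∘ₗ LinearMap.mulLeft k (algebraMap C (Localization.AtPrime q) d)) ∘ₗ π⟩ :
      Disc.Omega k C) = d • ⟨ψ ∘ₗ π⟩ := fun d ψ => by
    refine Disc.Omega.ext (LinearMap.ext fun x => ?_)
    simp [π]
  let E : (Localization.AtPrime q →ₗ[k] k) →ₗ[k] Localization.AtPrime q :=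
    { toFun := ext
      map_add' := fun a b => by
        rw [← map_add, ← TensorProduct.tmul_add]
        rfl
      map_smul' := fun a ψ => by
        have h1 : (⟨(a • ψ) ∘ₗ π⟩ : Disc.Omega k C) = algebraMap k C a • ⟨ψ ∘ₗ π⟩ := by
          refine Disc.Omega.ext (LinearMap.ext fun x => ?_)
          rw [Disc.Omega.smul_toLinearMap_apply, ← Algebra.smul_def]
          simp
        change θ (1 ⊗ₜ[C] (⟨(a • ψ) ∘ₗ π⟩ : Disc.Omega k C)) = a • θ _
        rw [h1, TensorProduct.tmul_smul, ← algebraMap_smul (Localization.AtPrime q), map_smul θ, ← IsScalarTower.algebraMap_apply k C (Localization.AtPrime q), algebraMap_smul] }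
  have hinj : Function.Injective E := by
    rw [injective_iff_map_eq_zero]
    intro ψ hψ
    have h0 : TensorProduct.mk C (Localization.AtPrime q) (Disc.Omega k C) 1 ⟨ψ ∘ₗ π⟩ = 0 :=
      θ.injective (hψ.trans (map_zero θ).symm)
    obtain ⟨v, hv⟩ := (IsLocalizedModule.eq_zero_iff q.primeCompl _).mp h0
    refine LinearMap.ext fun y => ?_
    obtain ⟨w, hw⟩ := (IsLocalization.map_units (Localization.AtPrime q) v).exists_left_inv
    obtain ⟨x, hx⟩ := hsurj (w * y)
    have h1 := congrArg (fun φ : Disc.Omega k C => φ.toLinearMap x) hv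
    simp only [Submonoid.smul_def, Disc.Omega.smul_toLinearMap_apply, Disc.Omega.zero_toLinearMap,
      LinearMap.zero_apply, LinearMap.comp_apply, π, AlgHom.toLinearMap_apply,
      IsScalarTower.toAlgHom_apply, map_mul (algebraMap C (Localization.AtPrime q)), hx] at h1
    rwa [← mul_assoc, mul_comm (algebraMap C _ (v : C)) w, hw, one_mul] at h1
  have hsurjE : Function.Surjective E :=
    (LinearMap.injective_iff_surjective_of_finrank_eq_finrank Subspace.dual_finrank_eq).mp hinj
  obtain ⟨lam, hlam⟩ := hsurjE 1
  refine gorenstein_of_frobenius lam ?_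
  have hkey : ∀ c, E (lam ∘ₗ LinearMap.mulLeft k c) = c := fun c => by
    obtain ⟨d, rfl⟩ := hsurj c
    change θ (1 ⊗ₜ[C] _) = _
    rw [hmul, TensorProduct.tmul_smul, ← algebraMap_smul (Localization.AtPrime q), map_smul θ]
    change algebraMap C _ d • E lam = _
    rw [hlam, smul_eq_mul, mul_one]
  exact ⟨fun a b hab => by rw [← hkey a, ← hkey b]; exact congrArg E hab,
    fun ψ => ⟨E ψ, hinj (hkey (E ψ))⟩⟩

theorem invertible_omega_of_gorenstein_fibres {A B' B : Type u} [CommRing A] [CommRing B'] [CommRing B]
    [Algebra A B'] [Algebra B' B] [Algebra A B] [IsScalarTower A B' B] [IsNoetherianRing A]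
    [IsNoetherianRing B] [Module.Flat A B] (hf : QFDual.IsQFFactor A B' B)
    (hG : ∀ (p : Ideal A) [p.IsPrime], LocCoh.IsGorensteinRing (p.Fiber B)) :
    Module.Invertible B (QFDual.omega A B' B) := by
  refine invertible_omega_of_fibres hf ?_
  intro p _ B'₁ B₁ _ _ _ _ _ _ _ _ _ _ _ _ _ _ _ _ _ h hB
  refine omega_invertible_of_gorenstein (isQFFactor_baseChange hf h hB) ?_
  haveI := hB
  let e : p.ResidueField ⊗[A] B ≃+* B₁ := (Algebra.IsPushout.equiv A p.ResidueField B B₁).toRingEquiv
  haveI : LocCoh.IsGorensteinRing (p.ResidueField ⊗[A] B) := hG p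
  haveI : LocCoh.IsGorensteinRing B₁ := LC.gorensteinRing_of_ringEquiv e inferInstance
  exact fun Q _ => LocCoh.IsGorensteinRing.isGorensteinLocalRing_localization Q

theorem gorenstein_fibres_iff {A B : Type u} [CommRing A] [CommRing B]
    [Algebra A B] [IsNoetherianRing A] [Module.Finite A B] [Module.Free A B] :
    (∀ (p : Ideal A) [p.IsPrime], LocCoh.IsGorensteinRing (p.Fiber B)) ↔
      Module.Invertible B (Disc.Omega A B) := by
  haveI : IsNoetherianRing B := IsNoetherianRing.of_finite A B
  have hf : QFDual.IsQFFactor A B B :=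
    ⟨inferInstance, by rw [show CommRingCat.ofHom (algebraMap B B) = CategoryTheory.CategoryStruct.id _ from rfl,
      AlgebraicGeometry.Spec.map_id]; infer_instance⟩
  constructor
  · intro hG
    haveI : Module.Invertible B (QFDual.omega A B B) := invertible_omega_of_gorenstein_fibres hf hG
    exact Module.Invertible.congr (TensorProduct.lid B (Disc.Omega A B))
  · intro hinv p _
    letI : Algebra B (p.ResidueField ⊗[A] B) := Algebra.TensorProduct.rightAlgebra
    have h : Algebra.IsPushout A p.ResidueField B (p.ResidueField ⊗[A] B) := inferInstance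
    haveI : Module.Invertible (p.ResidueField ⊗[A] B)
        ((p.ResidueField ⊗[A] B) ⊗[B] Disc.Omega A B) := inferInstance
    haveI : Module.Invertible (p.ResidueField ⊗[A] B) (Disc.Omega p.ResidueField (p.ResidueField ⊗[A] B)) :=
      Module.Invertible.congr (LinearEquiv.ofBijective _ (bcLin_bijective_of_projective h))
    haveI : IsNoetherianRing (p.Fiber B) := IsNoetherianRing.of_finite p.ResidueField _
    exact LC.gorensteinRing_of_atPrime fun Q _ =>
      gorenstein_atPrime_of_invertible (k := p.ResidueField) (C := p.ResidueField ⊗[A] B) Q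

end Groth.Agent.QFD
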