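import Mathlib
import Groth.Prelude.Def_QFDual
import Groth.Agent.TraceEtale.Basic
import Groth.Agent.S6278

/-!
The Dedekind complementary module is Hom_A(B, A); traces of finite projective and of integral elements.
-/

set_option autoImplicit false
set_option linter.style.haveILetI false
set_option linter.unusedSectionVars false

universe u

open TensorProduct

namespace Groth.Agent.QFD

variable {A K B L : Type u} [CommRing A] [CommRing K] [CommRing B] [CommRing L]
  [Algebra A K] [Algebra A B] [Algebra B L] [Algebra K L] [Algebra A L]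
  [IsScalarTower A K L] [IsScalarTower A B L]

theorem isBaseChange_of_isDedekindDefined (h : QFDual.IsDedekindDefined A K B L) :
    IsBaseChange K (IsScalarTower.toAlgHom A B L).toLinearMap := by
  haveI := h.isFractionRing
  haveI := h.isLocalization
  haveI : IsLocalizedModule (nonZeroDivisors A) (IsScalarTower.toAlgHom A B L).toLinearMap :=
    isLocalizedModule_iff_isLocalization.mpr inferInstance
  exact IsLocalizedModule.isBaseChange (nonZeroDivisors A) K _

theorem algebraMap_injective_of_isDedekindDefined (h : QFDual.IsDedekindDefined A K B L) :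
    Function.Injective (algebraMap B L) := by
  haveI := h.isLocalization
  refine IsLocalization.injective L (M := Algebra.algebraMapSubmonoid B (nonZeroDivisors A)) ?_
  rintro _ ⟨a, ha, rfl⟩
  exact h.map_nonZeroDivisors ha

theorem eq_zero_of_trace_eq_zero (h : QFDual.IsDedekindDefined A K B L) {x : L}
    (hx : ∀ b : B, Algebra.trace K L (x * algebraMap B L b) = 0) : x = 0 := by
  haveI := h.free
  haveI := h.finiteKL
  have hbij := (TraceEtale.etale_iff_bijective_traceForm K L).mp h.etale
  refine hbij.injective ?_
  rw [map_zero]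
  exact (isBaseChange_of_isDedekindDefined h).algHom_ext _ _ fun b => by simpa using hx b

theorem exists_omega_of_mem_complementary (h : QFDual.IsDedekindDefined A K B L)
    (x : QFDual.complementary A K B L) :
    ∃ φ : Disc.Omega A B, ∀ b : B, algebraMap A K (φ.toLinearMap b) =
      Algebra.trace K L ((x : L) * algebraMap B L b) := by
  haveI := h.isFractionRing
  have hinj : Function.Injective (algebraMap A K) := IsFractionRing.injective A K
  choose f hf using fun b : B => RingHom.mem_range.mp (x.2 b)
  refine ⟨⟨{ toFun := f, map_add' := fun b c => hinj ?_, map_smul' := fun a b => hinj ?_ }⟩, hf⟩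
  · rw [map_add (algebraMap A K), hf, hf, hf, map_add (algebraMap B L), mul_add, map_add]
  · rw [RingHom.id_apply, smul_eq_mul, map_mul (algebraMap A K), hf, hf, Algebra.smul_def,
      map_mul (algebraMap B L), ← IsScalarTower.algebraMap_apply A B L, IsScalarTower.algebraMap_apply A K L,
      mul_left_comm, ← Algebra.smul_def, map_smul, smul_eq_mul]

theorem exists_mem_complementary_of_omega (h : QFDual.IsDedekindDefined A K B L)
    (φ : Disc.Omega A B) :
    ∃ x : QFDual.complementary A K B L, ∀ b : B, algebraMap A K (φ.toLinearMap b) =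
      Algebra.trace K L ((x : L) * algebraMap B L b) := by
  haveI := h.free
  haveI := h.finiteKL
  have hbij := (TraceEtale.etale_iff_bijective_traceForm K L).mp h.etale
  obtain ⟨x, hx⟩ := hbij.surjective ((isBaseChange_of_isDedekindDefined h).toDual φ.toLinearMap)
  have key : ∀ b : B, algebraMap A K (φ.toLinearMap b) =
      Algebra.trace K L (x * algebraMap B L b) := fun b => by
    have h1 := LinearMap.congr_fun hx (algebraMap B L b)
    rw [Algebra.traceForm_apply] at h1
    rw [h1]
    exact ((isBaseChange_of_isDedekindDefined h).toDual_comp_apply φ.toLinearMap b).symm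
  exact ⟨⟨x, fun b => ⟨_, key b⟩⟩, key⟩

theorem exists_complementary_equiv (h : QFDual.IsDedekindDefined A K B L) :
    ∃ e : QFDual.complementary A K B L ≃ₗ[B] Disc.Omega A B,
      ∀ (x : QFDual.complementary A K B L) (b : B),
        algebraMap A K ((e x).toLinearMap b) = Algebra.trace K L ((x : L) * algebraMap B L b) := by
  haveI := h.isFractionRing
  have hinj : Function.Injective (algebraMap A K) := IsFractionRing.injective A K
  choose f hf using exists_omega_of_mem_complementary h
  let g : QFDual.complementary A K B L →ₗ[B] Disc.Omega A B :=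
    { toFun := f
      map_add' := fun x y => Disc.Omega.ext (LinearMap.ext fun b => hinj (by
        rw [Disc.Omega.add_toLinearMap, LinearMap.add_apply, map_add, hf, hf, hf, ← map_add,
          Submodule.coe_add, add_mul]))
      map_smul' := fun c x => Disc.Omega.ext (LinearMap.ext fun b => hinj (by
        rw [RingHom.id_apply, Disc.Omega.smul_toLinearMap_apply, hf, hf, Submodule.coe_smul,
          Algebra.smul_def, map_mul (algebraMap B L), mul_assoc, mul_left_comm])) }
  have hg : Function.Bijective g := by
    constructor
    · refine (injective_iff_map_eq_zero g).mpr fun x hx => Subtype.ext ?_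
      refine eq_zero_of_trace_eq_zero h fun b => ?_
      have h1 := hf x b
      have h2 : f x = 0 := hx
      rw [h2] at h1
      simpa using h1.symm
    · intro φ
      obtain ⟨x, hx⟩ := exists_mem_complementary_of_omega h φ
      exact ⟨x, Disc.Omega.ext (LinearMap.ext fun b => hinj ((hf x b).trans (hx b).symm))⟩
  exact ⟨LinearEquiv.ofBijective g hg, hf⟩

theorem trace_mem_range_of_dualBasis [Module.Free K L] [Module.Finite K L]
    (hbc : IsBaseChange K (IsScalarTower.toAlgHom A B L).toLinearMap) {ι : Type*} [Fintype ι]
    (f : ι → B →ₗ[A] A) (w : ι → B) (hfw : ∀ c : B, ∑ j, f j c • w j = c) (b : B) :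
    Algebra.trace K L (algebraMap B L b) ∈ (algebraMap A K).range := by
  have hF : ∀ (j : ι) (c : B), hbc.toDual (f j) (algebraMap B L c) = algebraMap A K (f j c) :=
    fun j c => hbc.toDual_comp_apply (f j) c
  have hid : (∑ j, (hbc.toDual (f j)).smulRight (algebraMap B L (b * w j))) =
      LinearMap.mulLeft K (algebraMap B L b) := by
    refine hbc.algHom_ext _ _ fun c => ?_
    simp only [AlgHom.toLinearMap_apply, IsScalarTower.coe_toAlgHom', LinearMap.sum_apply,
      LinearMap.smulRight_apply, hF, algebraMap_smul, LinearMap.mulLeft_apply]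
    conv_rhs => rw [← map_mul, ← hfw c, Finset.mul_sum, map_sum]
    refine Finset.sum_congr rfl fun j _ => ?_
    rw [mul_smul_comm, Algebra.smul_def, Algebra.smul_def, map_mul (algebraMap B L) (algebraMap A B _),
      ← IsScalarTower.algebraMap_apply A B L]
  refine ⟨∑ j, f j (b * w j), ?_⟩
  rw [Algebra.trace_apply]
  show algebraMap A K (∑ j, f j (b * w j)) = LinearMap.trace K L (LinearMap.mulLeft K (algebraMap B L b))
  rw [← hid, map_sum, map_sum]
  exact Finset.sum_congr rfl fun j _ => by rw [LinearMap.trace_smulRight, hF]

theorem one_mem_complementary_of_flat (h : QFDual.IsDedekindDefined A K B L) [Module.Flat A B] :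
    (1 : L) ∈ QFDual.complementary A K B L := by
  haveI := h.isNoetherianRing
  haveI := h.finite
  haveI := h.free
  haveI := h.finiteKL
  haveI : Module.FinitePresentation A B := Module.finitePresentation_of_finite A B
  haveI : Module.Projective A B := Module.Flat.projective_of_finitePresentation
  obtain ⟨n, p, i, -, -, hpi⟩ := Module.Finite.exists_comp_eq_id_of_projective A B
  intro b
  rw [one_mul]
  refine trace_mem_range_of_dualBasis (isBaseChange_of_isDedekindDefined h)
    (fun j : Fin n => LinearMap.proj j ∘ₗ i) (fun j => p (Pi.single j 1)) (fun c => ?_) b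
  have hc : p (i c) = c := LinearMap.congr_fun hpi c
  conv_rhs => rw [← hc, pi_eq_sum_univ' (i c), map_sum]
  simp

/-- An element which is integral modulo every prime is integral. -/
theorem isIntegral_of_forall_prime {R S : Type u} [CommRing R] [CommRing S] [Algebra R S] {x : S}
    (hx : ∀ (P : Ideal S) [P.IsPrime], IsIntegral R (Ideal.Quotient.mk P x)) : IsIntegral R x := by
  let T : Submonoid S :=
    { carrier := {y | ∃ q : Polynomial R, q.Monic ∧ Polynomial.aeval x q = y}
      one_mem' := ⟨1, Polynomial.monic_one, map_one _⟩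
      mul_mem' := by
        rintro _ _ ⟨q, hq, rfl⟩ ⟨q', hq', rfl⟩
        exact ⟨q * q', hq.mul hq', map_mul _ _ _⟩ }
  by_contra hni
  have hd : Disjoint ((⊥ : Ideal S) : Set S) (T : Set S) := by
    rw [Set.disjoint_left]
    rintro y hy ⟨q, hq, hqy⟩
    have hy0 : y = 0 := (Submodule.mem_bot S).mp hy
    exact hni ⟨q, hq, by rw [← Polynomial.aeval_def, hqy, hy0]⟩
  obtain ⟨P, hP, -, hPT⟩ := Ideal.exists_le_prime_disjoint (⊥ : Ideal S) T hd
  obtain ⟨q, hq, hqx⟩ := @hx P hP
  refine Set.disjoint_left.mp hPT (Ideal.Quotient.eq_zero_iff_mem.mp ?_) ⟨q, hq, rfl⟩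
  have h1 := Polynomial.aeval_algHom_apply (Ideal.Quotient.mkₐ R P) x q
  rw [← Polynomial.aeval_def] at hqx
  rw [Ideal.Quotient.mkₐ_eq_mk] at h1
  rw [← h1, hqx]

/-- The trace of a matrix annihilated by a monic polynomial over R is integral over R. -/
theorem isIntegral_matrix_trace {R S : Type u} [CommRing R] [CommRing S] [Algebra R S]
    {n : Type*} [Fintype n] [DecidableEq n] {M : Matrix n n S} {p : Polynomial R} (hp : p.Monic)
    (hpM : Polynomial.aeval M p = 0) : IsIntegral R M.trace := by
  refine isIntegral_of_forall_prime fun P _ => ?_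
  let F := AlgebraicClosure (FractionRing (S ⧸ P))
  let g : S →ₐ[R] F := (IsScalarTower.toAlgHom R (S ⧸ P) F).comp (Ideal.Quotient.mkₐ R P)
  suffices h : IsIntegral R (g M.trace) by
    have hinj : Function.Injective (IsScalarTower.toAlgHom R (S ⧸ P) F) := by
      rw [IsScalarTower.coe_toAlgHom', IsScalarTower.algebraMap_eq (S ⧸ P) (FractionRing (S ⧸ P)) F]
      exact (algebraMap (FractionRing (S ⧸ P)) F).injective.comp (IsFractionRing.injective _ _)
    exact (isIntegral_algHom_iff _ hinj).mp h
  have hM : Polynomial.aeval (g.mapMatrix M) p = 0 := by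
    rw [Polynomial.aeval_algHom_apply, hpM, map_zero]
  have htr : g M.trace = (g.mapMatrix M).trace := AddMonoidHom.map_trace g.toAddMonoidHom M
  rw [htr, Matrix.trace_eq_sum_roots_charpoly]
  refine IsIntegral.multiset_sum fun μ hμ => ⟨p, hp, ?_⟩
  rw [← Polynomial.eval_map]
  have hspec : μ ∈ spectrum F (g.mapMatrix M) :=
    Matrix.mem_spectrum_iff_isRoot_charpoly.mpr (Polynomial.isRoot_of_mem_roots hμ)
  have h2 := spectrum.subset_polynomial_aeval (g.mapMatrix M) (p.map (algebraMap R F))
    ⟨μ, hspec, rfl⟩
  rw [Polynomial.aeval_map_algebraMap, hM] at h2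
  rcases subsingleton_or_nontrivial (Matrix n n F) with hs | hs
  · exact absurd hspec (by simp [spectrum.of_subsingleton])
  · rw [spectrum.zero_eq] at h2
    exact h2

theorem isIntegral_trace (R : Type u) {S T : Type u} [CommRing R] [CommRing S] [CommRing T]
    [Algebra R S] [Algebra S T] [Algebra R T] [IsScalarTower R S T] [Module.Free S T]
    [Module.Finite S T] {t : T} (ht : IsIntegral R t) : IsIntegral R (Algebra.trace S T t) := by
  classical
  obtain ⟨p, hp, hpt⟩ := ht
  rw [Algebra.trace_eq_matrix_trace (Module.Free.chooseBasis S T)]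
  refine isIntegral_matrix_trace (p := p) hp ?_
  rw [← Polynomial.aeval_def] at hpt
  have h1 := Polynomial.aeval_algHom_apply
    ((Algebra.leftMulMatrix (Module.Free.chooseBasis S T)).restrictScalars R) t p
  simp only [AlgHom.coe_restrictScalars'] at h1
  rw [h1, hpt, map_zero]

theorem one_mem_complementary_of_normal (h : QFDual.IsDedekindDefined A K B L)
    (hA : EGA4.IsNormalRing A) : (1 : L) ∈ QFDual.complementary A K B L := by
  haveI := h.isFractionRing
  haveI := h.finite
  haveI := h.free
  haveI := h.finiteKL
  haveI : IsIntegrallyClosedIn A (FractionRing A) := S6278.result A hA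
  intro b
  rw [one_mul]
  have hb : IsIntegral A (algebraMap B L b) :=
    (IsIntegral.of_finite A b).map (IsScalarTower.toAlgHom A B L)
  let e := FractionRing.algEquiv A K
  have ht := (isIntegral_trace A (S := K) hb).map e.symm
  obtain ⟨a, ha⟩ := IsIntegrallyClosedIn.algebraMap_eq_of_integral ht
  exact ⟨a, e.symm.injective (by rw [e.symm.commutes, ha])⟩

theorem dedekindDifferent_eq (h : QFDual.IsDedekindDefined A K B L)
    [Module.Finite A B] [Module.Free A B] : QFDual.dedekindDifferent A K B L =
      Submodule.map (Algebra.linearMap B L) (QFDual.different B (Disc.Omega.trace A B)) := by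
  haveI := h.isFractionRing
  haveI := h.isLocalization
  have hinj : Function.Injective (algebraMap A K) := IsFractionRing.injective A K
  have h1 : (1 : L) ∈ QFDual.complementary A K B L := one_mem_complementary_of_flat h
  obtain ⟨e, he⟩ := exists_complementary_equiv h
  have htr : e ⟨1, h1⟩ = Disc.Omega.trace A B := by
    refine Disc.Omega.ext (LinearMap.ext fun b => hinj ?_)
    rw [he ⟨1, h1⟩ b, one_mul]
    exact Algebra.trace_localization A (nonZeroDivisors A) b
  have hB := algebraMap_injective_of_isDedekindDefined h
  ext x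
  rw [Submodule.mem_map]
  constructor
  · intro hx
    obtain ⟨b, hb⟩ := RingHom.mem_range.mp (hx 1 h1)
    rw [mul_one] at hb
    refine ⟨b, (QFDual.mem_different_iff B _ _).mpr fun φ => ?_, hb⟩
    obtain ⟨c, hc⟩ := RingHom.mem_range.mp (hx _ (e.symm φ).2)
    refine ⟨c, ?_⟩
    conv_rhs => rw [← e.apply_symm_apply φ]
    rw [← htr, ← map_smul, ← map_smul]
    congr 1
    refine Subtype.ext ?_
    rw [Submodule.coe_smul, Submodule.coe_smul, Algebra.smul_def, Algebra.smul_def, mul_one, hc, hb]
  · rintro ⟨b, hb, rfl⟩ y hy
    obtain ⟨c, hc⟩ := (QFDual.mem_different_iff B _ _).mp hb (e ⟨y, hy⟩)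
    rw [← htr, ← map_smul, ← map_smul] at hc
    have h2 := congrArg (Subtype.val (p := fun z => z ∈ QFDual.complementary A K B L)) (e.injective hc)
    rw [Submodule.coe_smul, Submodule.coe_smul, Algebra.smul_def, Algebra.smul_def, mul_one] at h2
    exact ⟨c, h2⟩

end Groth.Agent.QFD
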