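import Mathlib
import Groth.Agent.QFD.BaseChange
import Groth.Agent.S6283
import Groth.Agent.MorLib.UnramLocus

/-!
The different of a finite free algebra under base change.
-/

set_option autoImplicit false
set_option linter.style.haveILetI false
set_option linter.unusedSectionVars false

universe u

open TensorProduct

namespace Groth.Agent.QFD

section Abstract

variable {R R' M M' : Type u} [CommRing R] [CommRing R'] [Algebra R R'] [AddCommGroup M]
  [Module R M] [AddCommGroup M'] [Module R' M']

theorem different_eq_annihilator (τ : M) :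
    QFDual.different R τ = Module.annihilator R (M ⧸ (R ∙ τ)) := by
  rw [Submodule.annihilator_quotient]
  rfl

theorem different_eq_annihilator_baseChange (e : R' ⊗[R] M ≃ₗ[R'] M') (τ : M) :
    QFDual.different R' (e (1 ⊗ₜ τ)) = Module.annihilator R' (R' ⊗[R] (M ⧸ (R ∙ τ))) := by
  let π : R' ⊗[R] M →ₗ[R'] R' ⊗[R] (M ⧸ (R ∙ τ)) := (R ∙ τ).mkQ.baseChange R'
  have hπ : Function.Surjective π :=
    LinearMap.lTensor_surjective R' (Submodule.mkQ_surjective _)
  have hker : ∀ x, π x = 0 ↔ ∃ c : R', c • (1 ⊗ₜ[R] τ) = x := by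
    intro x
    constructor
    · intro hx
      obtain ⟨z, hz⟩ := ((lTensor_exact R' (LinearMap.exact_subtype_mkQ (R ∙ τ))
        (Submodule.mkQ_surjective _)) x).mp hx
      subst hz
      clear hx
      induction z using TensorProduct.induction_on with
      | zero => exact ⟨0, by simp⟩
      | add a b ha hb =>
        obtain ⟨c, hc⟩ := ha
        obtain ⟨d, hd⟩ := hb
        exact ⟨c + d, by rw [add_smul, hc, hd, map_add]⟩
      | tmul c m =>
        obtain ⟨r, hr⟩ := Submodule.mem_span_singleton.mp m.2
        refine ⟨r • c, ?_⟩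
        rw [LinearMap.lTensor_tmul, Submodule.subtype_apply, ← hr, TensorProduct.smul_tmul',
          smul_eq_mul, mul_one, TensorProduct.smul_tmul]
    · rintro ⟨c, rfl⟩
      have h0 : Submodule.mkQ (R ∙ τ) τ = 0 :=
        (Submodule.Quotient.mk_eq_zero _).mpr (Submodule.mem_span_singleton_self τ)
      simp [π, h0]
  ext c
  rw [QFDual.mem_different_iff, Module.mem_annihilator]
  constructor
  · intro hc x
    obtain ⟨x, rfl⟩ := hπ x
    rw [← map_smul, hker]
    obtain ⟨d, hd⟩ := hc (e x)
    refine ⟨d, e.injective ?_⟩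
    rw [map_smul, map_smul, hd]
  · intro hc m
    obtain ⟨x, rfl⟩ := e.surjective m
    obtain ⟨d, hd⟩ := (hker (c • x)).mp (by rw [map_smul, hc])
    exact ⟨d, by rw [← map_smul, hd, map_smul]⟩

theorem different_map_le (e : R' ⊗[R] M ≃ₗ[R'] M') (τ : M) :
    (QFDual.different R τ).map (algebraMap R R') ≤ QFDual.different R' (e (1 ⊗ₜ τ)) := by
  rw [different_eq_annihilator_baseChange, different_eq_annihilator, Ideal.map_le_iff_le_comap]
  intro r hr
  rw [Ideal.mem_comap, Module.mem_annihilator]
  intro x
  rw [Module.mem_annihilator] at hr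
  induction x using TensorProduct.induction_on with
  | zero => simp
  | add a b ha hb => rw [smul_add, ha, hb, add_zero]
  | tmul c m => rw [algebraMap_smul, ← TensorProduct.tmul_smul, hr, TensorProduct.tmul_zero]

theorem different_radical_eq [Module.Finite R M] (e : R' ⊗[R] M ≃ₗ[R'] M') (τ : M) :
    ((QFDual.different R τ).map (algebraMap R R')).radical =
      (QFDual.different R' (e (1 ⊗ₜ τ))).radical := by
  rw [different_eq_annihilator_baseChange, different_eq_annihilator,
    ← PrimeSpectrum.zeroLocus_eq_iff, ← Module.support_eq_zeroLocus]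
  ext q
  rw [MorLib.UnrLocus.support_baseChange_iff, Module.support_eq_zeroLocus, PrimeSpectrum.mem_zeroLocus,
    PrimeSpectrum.mem_zeroLocus, SetLike.coe_subset_coe, SetLike.coe_subset_coe,
    Ideal.map_le_iff_le_comap]
  rfl

theorem different_map_eq_of_flat [Module.Finite R M] [Module.Flat R R']
    (e : R' ⊗[R] M ≃ₗ[R'] M') (τ : M) :
    (QFDual.different R τ).map (algebraMap R R') = QFDual.different R' (e (1 ⊗ₜ τ)) := by
  rw [different_eq_annihilator_baseChange, different_eq_annihilator]
  exact (S6283.result (M ⧸ (R ∙ τ))).2 inferInstance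

theorem dual_smul_comm [Module.Invertible R M] (f : Module.Dual R M) (m n : M) :
    f m • n = f n • m := by
  refine Module.eq_of_localization_maximal (fun P [P.IsMaximal] => Localization.AtPrime P ⊗[R] M)
    (fun P [P.IsMaximal] => TensorProduct.mk R (Localization.AtPrime P) M 1) _ _ fun P _ => ?_
  let Rp := Localization.AtPrime P
  haveI : Module.Free Rp (Rp ⊗[R] M) := Module.free_of_flat_of_isLocalRing
  obtain ⟨e⟩ := (Module.Invertible.free_iff_linearEquiv (R := Rp) (M := Rp ⊗[R] M)).mp inferInstance
  let f' : Rp ⊗[R] M →ₗ[Rp] Rp :=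
    (TensorProduct.AlgebraTensorModule.rid R Rp Rp).toLinearMap ∘ₗ LinearMap.baseChange Rp f
  have hsymm : ∀ x y : Rp ⊗[R] M, f' x • y = f' y • x := fun x y => by
    have hx : ∀ z, z = e z • e.symm 1 := fun z => by
      rw [← map_smul, smul_eq_mul, mul_one, e.symm_apply_apply]
    rw [hx x, hx y]
    simp only [map_smul, smul_smul, smul_eq_mul]
    congr 1
    ring
  have hf : ∀ x : M, f' (1 ⊗ₜ x) = algebraMap R Rp (f x) := fun x => by
    simp [f', Algebra.algebraMap_eq_smul_one]
  have h1 := hsymm (1 ⊗ₜ m) (1 ⊗ₜ n)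
  rw [hf, hf, algebraMap_smul, algebraMap_smul] at h1
  simpa using h1

theorem different_map_eq_of_invertible [Module.Invertible R M] (e : R' ⊗[R] M ≃ₗ[R'] M') (τ : M) :
    (QFDual.different R τ).map (algebraMap R R') = QFDual.different R' (e (1 ⊗ₜ τ)) := by
  refine le_antisymm (different_map_le e τ) fun c hc => ?_
  have hsym : ∀ (f : Module.Dual R M) (m n : M), f m • n = f n • m := dual_smul_comm
  have hmem : ∀ f : Module.Dual R M, f τ ∈ QFDual.different R τ := fun f =>
    (QFDual.mem_different_iff R τ _).mpr fun m => ⟨f m, (hsym f τ m).symm⟩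
  rw [different_eq_annihilator_baseChange, Module.mem_annihilator] at hc
  let I := (QFDual.different R τ).map (algebraMap R R')
  have key : ∀ (f : Module.Dual R M) (m : M), c * algebraMap R R' (f m) ∈ I := by
    intro f m
    let ψ : M →ₗ[R] R' ⧸ I :=
      (Ideal.Quotient.mkₐ R I).toLinearMap ∘ₗ Algebra.linearMap R R' ∘ₗ f
    have hle : (R ∙ τ) ≤ LinearMap.ker ψ := by
      rw [Submodule.span_singleton_le_iff_mem, LinearMap.mem_ker]
      exact Ideal.Quotient.eq_zero_iff_mem.mpr (Ideal.mem_map_of_mem _ (hmem f))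
    let L : R' ⊗[R] (M ⧸ (R ∙ τ)) →ₗ[R'] R' ⧸ I :=
      (Submodule.liftQ _ ψ hle).liftBaseChange R'
    have h1 := congrArg L (hc (1 ⊗ₜ[R] Submodule.Quotient.mk m))
    rw [map_smul, map_zero, LinearMap.liftBaseChange_tmul, one_smul] at h1
    rw [← Ideal.Quotient.eq_zero_iff_mem, map_mul]
    exact h1
  have htop : Ideal.span {r | ∃ (f : Module.Dual R M) (m : M), f m = r} = ⊤ := by
    rw [eq_top_iff]
    intro r _
    obtain ⟨z, hz⟩ := (Module.Invertible.linearEquiv R M).surjective r
    rw [← hz]
    clear hz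
    induction z using TensorProduct.induction_on with
    | zero => simp
    | add a b ha hb => rw [map_add]; exact Ideal.add_mem _ ha hb
    | tmul f m =>
      exact Ideal.subset_span ⟨f, m, rfl⟩
  have hall : ∀ r ∈ Ideal.span {r | ∃ (f : Module.Dual R M) (m : M), f m = r},
      c * algebraMap R R' r ∈ I := by
    intro r hr
    refine Submodule.span_induction (p := fun r _ => c * algebraMap R R' r ∈ I) ?_ (by simp)
      (fun a b _ _ ha hb => by rw [map_add, mul_add]; exact I.add_mem ha hb)
      (fun a b _ hb => by rw [smul_eq_mul, map_mul, mul_left_comm]; exact I.mul_mem_left _ hb) hr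
    rintro _ ⟨f, m, rfl⟩
    exact key f m
  simpa using hall 1 (htop ▸ Submodule.mem_top)

end Abstract

variable {A B A' B' : Type u} [CommRing A] [CommRing B] [CommRing A'] [CommRing B']
  [Algebra A B] [Module.Finite A B] [Module.Free A B] [Algebra A A'] [Algebra B B'] [Algebra A' B']
  [Algebra A B'] [IsScalarTower A A' B'] [IsScalarTower A B B'] [Module.Finite A' B'] [Module.Free A' B']

theorem bcFin_trace (hB : Algebra.IsPushout A A' B B') :
    QFDual.bcFin hB (Disc.Omega.trace A B) = Disc.Omega.trace A' B' := by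
  refine Disc.Omega.ext (hB.out.algHom_ext _ _ fun b => ?_)
  change (QFDual.bcFin hB (Disc.Omega.trace A B)).toLinearMap (algebraMap B B' b) = _
  rw [QFDual.bcFin_apply_algebraMap]
  change algebraMap A A' (Algebra.trace A B b) = Algebra.trace A' B' (algebraMap B B' b)
  have he : Algebra.IsPushout.equiv A A' B B' (1 ⊗ₜ b) = algebraMap B B' b := by
    rw [Algebra.IsPushout.equiv_tmul, map_one, one_mul]
  rw [← he, Algebra.trace_eq_of_algEquiv, Algebra.trace_apply, Algebra.trace_apply,
    ← LinearMap.trace_baseChange]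
  congr 1
  ext x
  simp

/-- The base change equivalence of the dualizing modules. -/
theorem exists_omega_equiv (hB : Algebra.IsPushout A A' B B') :
    ∃ e : B' ⊗[B] Disc.Omega A B ≃ₗ[B'] Disc.Omega A' B',
      e (1 ⊗ₜ Disc.Omega.trace A B) = Disc.Omega.trace A' B' :=
  ⟨LinearEquiv.ofBijective _ (bcLin_bijective_of_projective hB), by simp [bcFin_trace hB]⟩

theorem finite_omega : Module.Finite B (Disc.Omega A B) := by
  classical
  let b := Module.Free.chooseBasis A B
  refine ⟨⟨Finset.univ.image fun i => (⟨b.coord i⟩ : Disc.Omega A B), ?_⟩⟩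
  rw [eq_top_iff]
  intro φ _
  have hφ : φ = ∑ i, algebraMap A B (φ.toLinearMap (b i)) • (⟨b.coord i⟩ : Disc.Omega A B) := by
    refine Disc.Omega.ext (LinearMap.ext fun x => ?_)
    conv_lhs => rw [← b.sum_repr x, map_sum]
    rw [omega_sum_toLinearMap, LinearMap.sum_apply]
    refine Finset.sum_congr rfl fun i _ => ?_
    rw [map_smul, Disc.Omega.smul_toLinearMap_apply, ← Algebra.smul_def, map_smul, smul_eq_mul,
      smul_eq_mul, mul_comm]
    rfl
  rw [hφ]
  exact Submodule.sum_mem _ fun i _ => Submodule.smul_mem _ _ (Submodule.subset_span (by simp))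

end Groth.Agent.QFD
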