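import Mathlib
import Groth.Prelude.Def_QFDual

/-!
The dualizing module of a product.
-/

set_option autoImplicit false
set_option linter.style.haveILetI false
set_option linter.unusedSectionVars false

universe u

open TensorProduct

namespace Groth.Agent.QFD

variable {A B' B C' C : Type u} [CommRing A] [CommRing B'] [CommRing B] [CommRing C'] [CommRing C]
  [Algebra A B'] [Algebra B' B] [Algebra A B] [IsScalarTower A B' B]
  [Algebra A C'] [Algebra C' C] [Algebra A C] [IsScalarTower A C' C]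
  [Algebra (B' × C') (B × C)] [IsScalarTower A (B' × C') (B × C)]
  (halg : algebraMap (B' × C') (B × C) = (algebraMap B' B).prodMap (algebraMap C' C))

include halg in
theorem prod_smul_eq (r : B' × C') (x : B × C) : r • x = (r.1 • x.1, r.2 • x.2) := by
  rw [Algebra.smul_def, halg, RingHom.coe_prodMap, Prod.map, Algebra.smul_def, Algebra.smul_def]
  rfl

include halg in
theorem exists_omega_prod_equiv :
    ∃ e : QFDual.omega A (B' × C') (B × C) ≃ₗ[A] QFDual.omega A B' B × QFDual.omega A C' C,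
      ∀ (b : B) (c : C) (φ : Disc.Omega A (B' × C')), e ((b, c) ⊗ₜ[B' × C'] φ) =
        (b ⊗ₜ[B'] Disc.Omega.mk (φ.toLinearMap ∘ₗ LinearMap.inl A B' C'),
          c ⊗ₜ[C'] Disc.Omega.mk (φ.toLinearMap ∘ₗ LinearMap.inr A B' C')) := by
  let il : Disc.Omega A (B' × C') →+ Disc.Omega A B' :=
    AddMonoidHom.mk' (fun φ => ⟨φ.toLinearMap ∘ₗ LinearMap.inl A B' C'⟩) fun φ ψ => rfl
  let ir : Disc.Omega A (B' × C') →+ Disc.Omega A C' :=
    AddMonoidHom.mk' (fun φ => ⟨φ.toLinearMap ∘ₗ LinearMap.inr A B' C'⟩) fun φ ψ => rfl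
  have hil : ∀ (r : B' × C') φ, il (r • φ) = r.1 • il φ := fun r φ => by
    refine Disc.Omega.ext (LinearMap.ext fun x => ?_)
    simp [il, Prod.mul_def]
  have hir : ∀ (r : B' × C') φ, ir (r • φ) = r.2 • ir φ := fun r φ => by
    refine Disc.Omega.ext (LinearMap.ext fun x => ?_)
    simp [ir, Prod.mul_def]
  let F : QFDual.omega A (B' × C') (B × C) →+ QFDual.omega A B' B × QFDual.omega A C' C :=
    TensorProduct.liftAddHom
      { toFun := fun x => AddMonoidHom.mk' (fun φ => (x.1 ⊗ₜ[B'] il φ, x.2 ⊗ₜ[C'] ir φ))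
          (fun φ ψ => by simp [tmul_add])
        map_zero' := by ext φ <;> simp
        map_add' := fun x y => by ext φ <;> simp [add_tmul] }
      (fun r x φ => by
        change ((r • x).1 ⊗ₜ[B'] il φ, (r • x).2 ⊗ₜ[C'] ir φ) =
          (x.1 ⊗ₜ[B'] il (r • φ), x.2 ⊗ₜ[C'] ir (r • φ))
        rw [prod_smul_eq halg, hil, hir, smul_tmul, smul_tmul])
  let pl : Disc.Omega A B' →+ Disc.Omega A (B' × C') :=
    AddMonoidHom.mk' (fun φ => ⟨φ.toLinearMap ∘ₗ LinearMap.fst A B' C'⟩) fun φ ψ => rfl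
  let pr : Disc.Omega A C' →+ Disc.Omega A (B' × C') :=
    AddMonoidHom.mk' (fun φ => ⟨φ.toLinearMap ∘ₗ LinearMap.snd A B' C'⟩) fun φ ψ => rfl
  have hpl : ∀ (r : B') φ, pl (r • φ) = ((r, 0) : B' × C') • pl φ := fun r φ =>
    Disc.Omega.ext (LinearMap.ext fun x => rfl)
  have hpr : ∀ (r : C') φ, pr (r • φ) = ((0, r) : B' × C') • pr φ := fun r φ =>
    Disc.Omega.ext (LinearMap.ext fun x => rfl)
  let G₁ : QFDual.omega A B' B →+ QFDual.omega A (B' × C') (B × C) :=
    TensorProduct.liftAddHom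
      { toFun := fun b => AddMonoidHom.mk' (fun φ => ((b, 0) : B × C) ⊗ₜ[B' × C'] pl φ)
          (fun φ ψ => by rw [map_add, tmul_add])
        map_zero' := by ext φ; simp [Prod.mk_zero_zero]
        map_add' := fun x y => by
          ext φ
          change ((x + y, 0) : B × C) ⊗ₜ[B' × C'] pl φ = ((x, 0) : B × C) ⊗ₜ[B' × C'] pl φ + ((y, 0) : B × C) ⊗ₜ[B' × C'] pl φ
          rw [← add_tmul]; simp }
      (fun r b φ => by
        change ((r • b, 0) : B × C) ⊗ₜ[B' × C'] pl φ = ((b, 0) : B × C) ⊗ₜ[B' × C'] pl (r • φ)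
        rw [hpl, tmul_smul, smul_tmul', prod_smul_eq halg]
        simp)
  let G₂ : QFDual.omega A C' C →+ QFDual.omega A (B' × C') (B × C) :=
    TensorProduct.liftAddHom
      { toFun := fun c => AddMonoidHom.mk' (fun φ => ((0, c) : B × C) ⊗ₜ[B' × C'] pr φ)
          (fun φ ψ => by rw [map_add, tmul_add])
        map_zero' := by ext φ; simp [Prod.mk_zero_zero]
        map_add' := fun x y => by
          ext φ
          change ((0, x + y) : B × C) ⊗ₜ[B' × C'] pr φ = ((0, x) : B × C) ⊗ₜ[B' × C'] pr φ + ((0, y) : B × C) ⊗ₜ[B' × C'] pr φ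
          rw [← add_tmul]; simp }
      (fun r c φ => by
        change ((0, r • c) : B × C) ⊗ₜ[B' × C'] pr φ = ((0, c) : B × C) ⊗ₜ[B' × C'] pr (r • φ)
        rw [hpr, tmul_smul, smul_tmul', prod_smul_eq halg]
        simp)
  have hplr : ∀ φ, pl (il φ) = ((1, 0) : B' × C') • φ ∧ pr (ir φ) = ((0, 1) : B' × C') • φ := fun φ => by
    constructor <;>
    · refine Disc.Omega.ext (LinearMap.ext fun x => ?_)
      simp [pl, il, pr, ir, Prod.mul_def]
  have hGF : ∀ x, G₁ (F x).1 + G₂ (F x).2 = x := fun x => by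
    induction x using TensorProduct.induction_on with
    | zero => simp
    | add x y hx hy =>
      simp only [map_add, Prod.fst_add, Prod.snd_add]
      rw [add_add_add_comm, hx, hy]
    | tmul x φ =>
      change ((x.1, 0) : B × C) ⊗ₜ[B' × C'] pl (il φ) + ((0, x.2) : B × C) ⊗ₜ[B' × C'] pr (ir φ) = _
      rw [(hplr φ).1, (hplr φ).2, tmul_smul, tmul_smul, smul_tmul', smul_tmul', ← add_tmul,
        prod_smul_eq halg, prod_smul_eq halg]
      simp
  have hFG₁ : ∀ y, F (G₁ y) = (y, 0) := fun y => by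
    induction y using TensorProduct.induction_on with
    | zero => simp [Prod.mk_zero_zero]
    | add x y hx hy => rw [map_add, map_add, hx, hy]; simp
    | tmul b φ =>
      change (b ⊗ₜ[B'] il (pl φ), (0 : C) ⊗ₜ[C'] ir (pl φ)) = _
      rw [zero_tmul]
      rfl
  have hFG₂ : ∀ y, F (G₂ y) = (0, y) := fun y => by
    induction y using TensorProduct.induction_on with
    | zero => simp [Prod.mk_zero_zero]
    | add x y hx hy => rw [map_add, map_add, hx, hy]; simp
    | tmul b φ =>
      change ((0 : B) ⊗ₜ[B'] il (pr φ), b ⊗ₜ[C'] ir (pr φ)) = _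
      rw [zero_tmul]
      rfl
  refine ⟨{ toFun := F, map_add' := map_add F, map_smul' := fun a x => ?_
            invFun := fun y => G₁ y.1 + G₂ y.2, left_inv := hGF
            right_inv := fun y => by rw [map_add, hFG₁, hFG₂]; simp }, fun b c φ => rfl⟩
  induction x using TensorProduct.induction_on with
  | zero => simp
  | add x y hx hy => rw [smul_add, map_add, map_add, hx, hy, smul_add]
  | tmul x φ =>
    rw [smul_tmul']
    rfl

end Groth.Agent.QFD
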